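import Mathlib
import Cfsg.Agent.Lib.Grp.Frattini

/-!
Involutory isometries of a non-degenerate pairing with small commutator part that are squares in a
`2`-group of isometries: they commute, and a normalized `2`-group cannot move their commutator part.
-/

set_option autoImplicit false
set_option linter.style.haveILetI false
set_option linter.unusedSectionVars false

namespace Cfsg.Agent.Grp.Gross

open Subgroup
open scoped commutatorElement Pointwise

variable {K : Type*} [Field K] {S : Type*} [CommGroup S]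

/-- An alternating non-degenerate pairing of a group of exponent `r`. -/
structure Form (r : ℕ) (β : S → S → K) : Prop where
  exp : ∀ s : S, s ^ r = 1
  mulL : ∀ a b c, β (a * b) c = β a c * β b c
  mulR : ∀ a b c, β a (b * c) = β a b * β a c
  alt : ∀ a, β a a = 1
  nd : ∀ a, a ≠ 1 → ∃ b, β a b ≠ 1

/-- Preservation of a pairing. -/
def Isom (β : S → S → K) (e : MulAut S) : Prop := ∀ a b, β (e a) (e b) = β a b

/-- The inverted elements. -/
def mov (e : MulAut S) : Subgroup S where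
  carrier := {s | e s = s⁻¹}
  one_mem' := by simp
  mul_mem' := fun {a b} ha hb => by
    show e (a * b) = (a * b)⁻¹
    rw [map_mul, show e a = a⁻¹ from ha, show e b = b⁻¹ from hb, mul_inv]
  inv_mem' := fun {a} ha => by
    show e a⁻¹ = a⁻¹⁻¹
    rw [map_inv, show e a = a⁻¹ from ha]

theorem mem_mov {e : MulAut S} {s : S} : s ∈ mov e ↔ e s = s⁻¹ := Iff.rfl

theorem mov_one_eq_bot {r : ℕ} {β : S → S → K} (F : Form r β) (hr : Odd r) : mov (1 : MulAut S) = ⊥ := by
  refine (Subgroup.eq_bot_iff_forall _).mpr fun s hs => ?_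
  rw [mem_mov, MulAut.one_apply, eq_inv_iff_mul_eq_one, ← sq] at hs
  have h := orderOf_dvd_of_pow_eq_one hs
  have := (Nat.Coprime.eq_one_of_dvd (hr.coprime_two_left.symm.coprime_dvd_left
    (orderOf_dvd_of_pow_eq_one (F.exp s))) h)
  exact orderOf_eq_one_iff.mp this

namespace Form

variable {r : ℕ} {β : S → S → K} (F : Form r β)
include F

theorem ne_zero (a b : S) : β a b ≠ 0 := by
  intro h
  have := F.mulR a b (b⁻¹ * a)
  rw [mul_inv_cancel_left, F.alt, h, zero_mul] at this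
  exact one_ne_zero this

theorem one_right (a : S) : β a 1 = 1 := by
  have h := F.mulR a 1 1
  rw [one_mul] at h
  exact mul_left_cancel₀ (F.ne_zero a 1) (by rw [mul_one, ← h])

theorem one_left (a : S) : β 1 a = 1 := by
  have h := F.mulL 1 1 a
  rw [one_mul] at h
  exact mul_left_cancel₀ (F.ne_zero 1 a) (by rw [mul_one, ← h])

theorem swap (a b : S) : β a b * β b a = 1 := by
  have h := F.alt (a * b)
  rw [F.mulL, F.mulR, F.mulR, F.alt, F.alt, one_mul, mul_one] at h
  exact h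

theorem swap_eq_one {a b : S} (h : β a b = 1) : β b a = 1 := by
  have := F.swap a b; rwa [h, one_mul] at this

theorem pow_left (a b : S) (n : ℕ) : β (a ^ n) b = β a b ^ n := by
  induction n with
  | zero => rw [_root_.pow_zero, _root_.pow_zero, F.one_left]
  | succ n ih => rw [pow_succ, F.mulL, ih, pow_succ]

theorem pow_right (a b : S) (n : ℕ) : β a (b ^ n) = β a b ^ n := by
  induction n with
  | zero => rw [_root_.pow_zero, _root_.pow_zero, F.one_right]
  | succ n ih => rw [pow_succ, F.mulR, ih, pow_succ]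

theorem pow_r (a b : S) : β a b ^ r = 1 := by rw [← F.pow_left, F.exp, F.one_left]

theorem inv_left_mul (a b : S) : β a⁻¹ b * β a b = 1 := by rw [← F.mulL, inv_mul_cancel, F.one_left]

theorem eq_one_of_sq (hr : Odd r) {x : S} (h : x * x = 1) : x = 1 := by
  obtain ⟨m, hm⟩ := hr
  have h2 := F.exp x
  rw [hm, pow_succ, pow_mul, sq, h, one_pow, one_mul] at h2
  exact h2

theorem sq_ne_one (hr : Odd r) {a b : S} (h : β a b ≠ 1) : β a b ^ 2 ≠ 1 := by
  intro h2
  obtain ⟨m, hm⟩ := hr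
  have h3 := F.pow_r a b
  rw [hm, pow_succ, pow_mul, h2, one_pow, one_mul] at h3
  exact h h3

theorem exists_sq (hr : Odd r) (s : S) : ∃ t : S, t * t = s := by
  obtain ⟨m, hm⟩ := hr
  refine ⟨s ^ (m + 1), ?_⟩
  rw [← pow_add, show m + 1 + (m + 1) = r + 1 by omega, pow_succ, F.exp, one_mul]

theorem split (hr : Odd r) {e : MulAut S} (he : e * e = 1) (s : S) :
    ∃ u f, u ∈ mov e ∧ e f = f ∧ u * f = s ∧ ∀ W : Subgroup S, s ∈ W → e s ∈ W → u ∈ W ∧ f ∈ W := by
  obtain ⟨m, hm⟩ := hr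
  have hee : e (e s) = s := by rw [← MulAut.mul_apply, he, MulAut.one_apply]
  refine ⟨(s / e s) ^ (m + 1), (s * e s) ^ (m + 1), ?_, ?_, ?_, fun W h1 h2 => ⟨?_, ?_⟩⟩
  · rw [mem_mov, map_pow, map_div, hee, ← inv_pow, inv_div]
  · rw [map_pow, map_mul, hee, mul_comm]
  · have h2 : ∀ a b : S, a / b * (a * b) = a ^ 2 := fun a b => by
      rw [div_eq_mul_inv, mul_mul_mul_comm, inv_mul_cancel, mul_one, sq]
    rw [← mul_pow, h2, ← pow_mul, show 2 * (m + 1) = r + 1 by omega, pow_succ, F.exp, one_mul]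
  · exact W.pow_mem (W.div_mem h1 h2) _
  · exact W.pow_mem (W.mul_mem h1 h2) _

theorem perp (hr : Odd r) {e : MulAut S} (hi : Isom β e) {u f : S} (hu : u ∈ mov e) (hf : e f = f) :
    β u f = 1 := by
  by_contra h
  refine F.sq_ne_one hr h ?_
  have h1 := hi u f
  rw [mem_mov.mp hu, hf] at h1
  have h2 := F.inv_left_mul u f
  rwa [h1, ← sq] at h2

theorem nd_mov (hr : Odd r) {e : MulAut S} (he : e * e = 1) (hi : Isom β e) {u : S} (hu : u ∈ mov e)
    (h1 : u ≠ 1) : ∃ w ∈ mov e, β u w ≠ 1 := by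
  obtain ⟨b, hb⟩ := F.nd u h1
  obtain ⟨w, f, hw, hf, hwf, -⟩ := F.split hr he b
  refine ⟨w, hw, fun h => hb ?_⟩
  rw [← hwf, F.mulR, h, F.perp hr hi hu hf, one_mul]

theorem sq_le_card [Finite S] [hr : Fact r.Prime] {W : Subgroup S} (hW : W ≠ ⊥)
    (hnd : ∀ u ∈ W, u ≠ 1 → ∃ w ∈ W, β u w ≠ 1) : r * r ≤ Nat.card W := by
  obtain ⟨u, hu, hu1⟩ := (Subgroup.bot_or_exists_ne_one W).resolve_left hW
  obtain ⟨w, hw, hg⟩ := hnd u hu hu1
  have ho : orderOf (β u w) = r := orderOf_eq_prime (F.pow_r u w) hg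
  have hwu : β w u ≠ 1 := fun h => hg (F.swap_eq_one h)
  have ho' : orderOf (β w u) = r := orderOf_eq_prime (F.pow_r w u) hwu
  let φ : Fin r × Fin r → W := fun ij => ⟨u ^ (ij.1 : ℕ) * w ^ (ij.2 : ℕ), W.mul_mem (W.pow_mem hu _) (W.pow_mem hw _)⟩
  have hφ : Function.Injective φ := by
    rintro ⟨i, j⟩ ⟨i', j'⟩ h
    have h' : u ^ (i : ℕ) * w ^ (j : ℕ) = u ^ (i' : ℕ) * w ^ (j' : ℕ) := congrArg Subtype.val h
    have h1 := congrArg (fun s => β s w) h'
    have h2 := congrArg (fun s => β s u) h'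
    simp only [F.mulL, F.pow_left, F.alt, one_pow, mul_one, one_mul] at h1 h2
    refine Prod.ext (Fin.ext ?_) (Fin.ext ?_)
    · exact pow_injOn_Iio_orderOf (show (i : ℕ) ∈ Set.Iio _ by rw [ho]; exact i.2)
        (show (i' : ℕ) ∈ Set.Iio _ by rw [ho]; exact i'.2) h1
    · exact pow_injOn_Iio_orderOf (show (j : ℕ) ∈ Set.Iio _ by rw [ho']; exact j.2)
        (show (j' : ℕ) ∈ Set.Iio _ by rw [ho']; exact j'.2) h2
  have := Nat.card_le_card_of_injective φ hφ
  rwa [Nat.card_prod, Nat.card_fin] at this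

theorem card_mov [Finite S] [Fact r.Prime] (hr : Odd r) {e : MulAut S} (he : e * e = 1) (hi : Isom β e) (h : mov e ≠ ⊥) :
    r * r ≤ Nat.card (mov e) :=
  F.sq_le_card h fun _ hu h1 => F.nd_mov hr he hi hu h1

/-- Commuting small involutions are equal or fix each other's inverted part. -/
theorem eq_or_fix [Finite S] [hp : Fact r.Prime] (hr : Odd r) {e f : MulAut S} (he : e * e = 1)
    (hf : f * f = 1) (hie : Isom β e) (hif : Isom β f) (hce : Nat.card (mov e) ≤ r * r)
    (hcf : Nat.card (mov f) ≤ r * r) (hc : Commute e f) : e = f ∨ ∀ u ∈ mov e, f u = u := by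
  by_cases hall : ∀ u ∈ mov e, f u = u
  · exact Or.inr hall
  refine Or.inl ?_
  push Not at hall
  obtain ⟨u, hu, hfu⟩ := hall
  have hstab : ∀ x ∈ mov e, f x ∈ mov e := fun x hx => by
    rw [mem_mov, ← MulAut.mul_apply, hc.eq, MulAut.mul_apply, mem_mov.mp hx, map_inv]
  set L := mov e ⊓ mov f
  have hL : L ≠ ⊥ := by
    intro hL
    obtain ⟨v, g, hv, hg, hvg, hW⟩ := F.split hr hf u
    have hv1 : v = 1 := by
      have : v ∈ L := ⟨(hW _ hu (hstab u hu)).1, hv⟩
      rw [hL] at this; exact this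
    rw [hv1, one_mul] at hvg
    exact hfu (hvg ▸ hg)
  have hnd : ∀ x ∈ L, x ≠ 1 → ∃ w ∈ L, β x w ≠ 1 := by
    intro x hx hx1
    obtain ⟨w, hw, hxw⟩ := F.nd_mov hr he hie hx.1 hx1
    obtain ⟨v, g, hv, hg, hvg, hW⟩ := F.split hr hf w
    refine ⟨v, ⟨(hW _ hw (hstab w hw)).1, hv⟩, fun h => hxw ?_⟩
    rw [← hvg, F.mulR, h, F.perp hr hif hx.2 hg, one_mul]
  have hLr := F.sq_le_card hL hnd
  have hLe : L = mov e := Subgroup.eq_of_le_of_card_ge inf_le_left (hce.trans hLr)
  have hLf : L = mov f := Subgroup.eq_of_le_of_card_ge inf_le_right (hcf.trans hLr)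
  have hmm : mov e = mov f := hLe.symm.trans hLf
  refine MulEquiv.ext fun s => ?_
  obtain ⟨v, g, hv, hg, hvg, -⟩ := F.split hr he s
  obtain ⟨v', g', hv', hg', hvg', -⟩ := F.split hr hf g
  have hv'1 : v' = 1 := by
    by_contra h1
    obtain ⟨w, hw, hw1⟩ := F.nd_mov hr hf hif hv' h1
    refine hw1 ?_
    have e1 : β w g = 1 := F.perp hr hie (hmm ▸ hw) hg
    have e2 : β w g' = 1 := F.perp hr hif hw hg'
    rw [← hvg', F.mulR, e2, mul_one] at e1
    exact F.swap_eq_one e1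
  rw [hv'1, one_mul] at hvg'
  have hfg : f g = g := hvg' ▸ hg'
  have hvf : v ∈ mov f := hmm ▸ hv
  rw [← hvg, map_mul, map_mul, mem_mov.mp hv, mem_mov.mp hvf, hg, hfg]

end Form

/-- A square root of a small involution in a group of isometries. -/
def Root (r : ℕ) {D : Type*} [Group D] (σ : D →* MulAut S) (y : D) : Prop :=
  σ (y * y) * σ (y * y) = 1 ∧ Nat.card (mov (σ (y * y))) ≤ r * r

theorem mem_mov_conj {D : Type*} [Group D] (σ : D →* MulAut S) (g c : D) (x : S) :
    x ∈ mov (σ (g * c * g⁻¹)) ↔ σ g⁻¹ x ∈ mov (σ c) := by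
  rw [mem_mov, mem_mov, map_mul, map_mul, MulAut.mul_apply, MulAut.mul_apply]
  constructor
  · intro h
    have := congrArg (σ g⁻¹) h
    rwa [← MulAut.mul_apply, ← map_mul, inv_mul_cancel, map_one, MulAut.one_apply, map_inv (σ g⁻¹)] at this
  · intro h
    rw [h, map_inv, ← MulAut.mul_apply, ← map_mul, mul_inv_cancel, map_one, MulAut.one_apply]

theorem card_mov_conj {D : Type*} [Group D] (σ : D →* MulAut S) (g c : D) :
    Nat.card (mov (σ (g * c * g⁻¹))) = Nat.card (mov (σ c)) :=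
  Nat.card_congr ((σ g⁻¹).toEquiv.subtypeEquiv fun x => mem_mov_conj σ g c x)

theorem Root.conj {r : ℕ} {D : Type*} [Group D] {σ : D →* MulAut S} {y : D} (h : Root r σ y) (g : D) :
    Root r σ (g * y * g⁻¹) := by
  have e : g * y * g⁻¹ * (g * y * g⁻¹) = g * (y * y) * g⁻¹ := by group
  refine ⟨?_, ?_⟩
  · rw [e, ← map_mul, show g * (y * y) * g⁻¹ * (g * (y * y) * g⁻¹) = g * (y * y * (y * y)) * g⁻¹ by group,
      map_mul, map_mul, map_mul, h.1, mul_one, ← map_mul, mul_inv_cancel, map_one]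
  · rw [e, card_mov_conj]; exact h.2

theorem closure_conj_card_lt {D : Type*} [Group D] [Finite D] (hD : IsPGroup 2 D) (y y' w : D)
    (hw : w ∈ closure ({y, y'} : Set D)) :
    Nat.card (closure ({y, w * y * w⁻¹} : Set D)) < Nat.card (closure ({y, y'} : Set D)) ∨ Commute y y' := by
  set H := closure ({y, y'} : Set D) with hH
  have hy : y ∈ H := subset_closure (Set.mem_insert _ _)
  have hy' : y' ∈ H := subset_closure (Set.mem_insert_of_mem _ rfl)
  have hle : closure ({y, w * y * w⁻¹} : Set D) ≤ H := by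
    rw [closure_le]
    rintro x (rfl | rfl)
    · exact hy
    · exact H.mul_mem (H.mul_mem hw hy) (H.inv_mem hw)
  rcases lt_or_ge (Nat.card (closure ({y, w * y * w⁻¹} : Set D))) (Nat.card H) with h | h
  · exact Or.inl h
  refine Or.inr ?_
  have heq := Subgroup.eq_of_le_of_card_ge hle h
  set Y : H := ⟨y, hy⟩
  have htop : zpowers Y ⊔ frattini ↥H = ⊤ := by
    refine top_le_iff.mp fun x _ => ?_
    have hsub : closure ({y, w * y * w⁻¹} : Set D) ≤ (zpowers Y ⊔ frattini ↥H).map H.subtype := by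
      rw [closure_le]
      rintro z (rfl | rfl)
      · exact ⟨Y, mem_sup_left (mem_zpowers Y), rfl⟩
      · refine ⟨⁅(⟨w, hw⟩ : H), Y⁆ * Y, mul_mem (mem_sup_right ?_) (mem_sup_left (mem_zpowers Y)), ?_⟩
        · exact Cfsg.Agent.Grp.pGroup_commutator_le_frattini (hD.to_subgroup H)
            (commutator_mem_commutator (mem_top _) (mem_top _))
        · simp [commutatorElement_def, Y]
    rw [heq] at hsub
    obtain ⟨x', hx', e⟩ := hsub x.2
    rwa [← Subtype.ext e]
  have hz := frattini_nongenerating htop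
  obtain ⟨i, hi⟩ := mem_zpowers_iff.mp (hz ▸ mem_top (⟨y', hy'⟩ : H) : (⟨y', hy'⟩ : H) ∈ zpowers Y)
  have : y' = y ^ i := by
    have := congrArg Subtype.val hi
    simpa [Y] using this.symm
  rw [this]
  exact Commute.zpow_right rfl i

/-- Small involutions that are squares in a `2`-group of isometries commute. -/
theorem roots_commute [Finite S] {r : ℕ} [hp : Fact r.Prime] (hr : Odd r) {β : S → S → K} (F : Form r β)
    {D : Type*} [Group D] [Finite D] (hD : IsPGroup 2 D) (σ : D →* MulAut S) (hi : ∀ d, Isom β (σ d)) :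
    ∀ y y' : D, Root r σ y → Root r σ y' → Commute (σ (y * y)) (σ (y' * y')) := by
  suffices h : ∀ (N : ℕ) (y y' : D), Nat.card (closure ({y, y'} : Set D)) = N → Root r σ y → Root r σ y' →
      Commute (σ (y * y)) (σ (y' * y')) from fun y y' => h _ y y' rfl
  intro N
  induction N using Nat.strong_induction_on with
  | _ N ih =>
  intro y y' hN h h'
  by_contra hne
  have hnc : ¬ Commute y y' := fun hc => hne (((hc.mul_left hc).mul_right (hc.mul_left hc)).map σ)
  have hy : y ∈ closure ({y, y'} : Set D) := subset_closure (Set.mem_insert _ _)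
  have hy' : y' ∈ closure ({y, y'} : Set D) := subset_closure (Set.mem_insert_of_mem _ rfl)
  have hdesc : ∀ w ∈ closure ({y, y'} : Set D),
      Commute (σ (y * y)) (σ (w * (y * y) * w⁻¹)) := fun w hw => by
    have h1 := ih _ (hN ▸ (closure_conj_card_lt hD y y' w hw).resolve_right hnc) y _ rfl h (h.conj w)
    rwa [show w * y * w⁻¹ * (w * y * w⁻¹) = w * (y * y) * w⁻¹ by group] at h1
  set c := y * y with hc
  set c' := y' * y' with hc'
  set c₂ := c' * c * c'⁻¹ with hc₂
  set c₃ := y' * c * y'⁻¹ with hc₃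
  clear_value c c' c₂ c₃
  have hcc : σ c * σ c = 1 := by rw [hc]; exact h.1
  have hcr : Nat.card (mov (σ c)) ≤ r * r := by rw [hc]; exact h.2
  have hcc' : σ c' * σ c' = 1 := by rw [hc']; exact h'.1
  have hcr' : Nat.card (mov (σ c')) ≤ r * r := by rw [hc']; exact h'.2
  have hsqc : ∀ g, σ (g * c * g⁻¹) * σ (g * c * g⁻¹) = 1 := fun g => by
    have := (h.conj g).1
    rwa [show g * y * g⁻¹ * (g * y * g⁻¹) = g * c * g⁻¹ by rw [hc]; group] at this
  have hcd : ∀ g, Nat.card (mov (σ (g * c * g⁻¹))) ≤ r * r := fun g => by rw [card_mov_conj]; exact hcr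
  have hdich : ∀ g ∈ closure ({y, y'} : Set D), σ c = σ (g * c * g⁻¹) ∨
      ∀ u ∈ mov (σ c), σ (g * c * g⁻¹) u = u := fun g hg =>
    F.eq_or_fix hr hcc (hsqc g) (hi _) (hi _) hcr (hcd g) (hdesc g hg)
  have h2 : ∀ u ∈ mov (σ c), σ c₂ u = u := by
    refine (hc₂ ▸ hdich c' (hc' ▸ mul_mem hy' hy')).resolve_left fun e => hne ?_
    rw [hc₂] at e
    rw [map_mul, map_mul, map_inv, eq_mul_inv_iff_mul_eq] at e
    exact e
  have h3 : ∀ u ∈ mov (σ c), σ c₃ u = u := by
    refine (hc₃ ▸ hdich y' hy').resolve_left fun e => hne ?_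
    rw [hc₃] at e
    rw [map_mul, map_mul, map_inv, eq_mul_inv_iff_mul_eq] at e
    have hcy : Commute (σ y') (σ c) := e.symm
    rw [hc', map_mul]
    exact (hcy.mul_left hcy).symm
  -- `mov c'` lies in `mov c ⬝ mov c₂`
  have hU0 : mov (σ c) ≠ ⊥ := fun h0 => hne (by
    have : σ c = 1 := MulEquiv.ext fun s => by
      obtain ⟨u, f, hu, hf, huf, -⟩ := F.split hr hcc s
      rw [h0, Subgroup.mem_bot] at hu
      rw [← huf, hu, one_mul, hf, MulAut.one_apply]
    rw [this]; exact Commute.one_left _)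
  have hUU : ∀ u ∈ mov (σ c), σ c' u = u → u = 1 := by
    intro u hu hfix
    have hu2 : u ∈ mov (σ c₂) := by
      rw [hc₂, mem_mov_conj, map_inv]
      have : (σ c')⁻¹ u = u := by
        conv_lhs => rw [← hfix]
        rw [← MulAut.mul_apply, inv_mul_cancel, MulAut.one_apply]
      rwa [this]
    refine F.eq_one_of_sq hr ?_
    rw [mem_mov, h2 u hu, eq_inv_iff_mul_eq_one] at hu2
    exact hu2
  let ψ : mov (σ c) →* mov (σ c') :=
    { toFun := fun u => ⟨(u : S) / σ c' u, by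
        rw [mem_mov, map_div, ← MulAut.mul_apply, hcc', MulAut.one_apply, inv_div]⟩
      map_one' := by ext; simp
      map_mul' := fun a b => by
        ext
        show ((a : S) * b) / σ c' ((a : S) * b) = (a : S) / σ c' a * ((b : S) / σ c' b)
        rw [map_mul, mul_div_mul_comm] }
  have hψinj : Function.Injective ψ := by
    rw [injective_iff_map_eq_one]
    intro u hu
    have : (u : S) / σ c' u = 1 := congrArg Subtype.val hu
    exact Subtype.ext (hUU u u.2 (div_eq_one.mp this).symm)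
  have hψ : Function.Surjective ψ :=
    ((Nat.bijective_iff_injective_and_card ψ).mpr ⟨hψinj, le_antisymm (Nat.card_le_card_of_injective ψ hψinj)
      (hcr'.trans (F.card_mov hr hcc (hi _) hU0))⟩).2
  -- `mov c₃` is orthogonal to it
  have horth : ∀ v ∈ mov (σ c₃), ∀ u ∈ mov (σ c), β u v = 1 := fun v hv u hu =>
    F.swap_eq_one (F.perp hr (hi c₃) hv (h3 u hu))
  have horth2 : ∀ v ∈ mov (σ c₃), ∀ u ∈ mov (σ c), β (σ c' u) v = 1 := by
    intro v hv u hu
    obtain ⟨v₀, hv₀, rfl⟩ : ∃ v₀ ∈ mov (σ c), σ y' v₀ = v := ⟨σ y'⁻¹ v, (mem_mov_conj σ y' c v).mp (hc₃ ▸ hv),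
      by rw [← MulAut.mul_apply, ← map_mul, mul_inv_cancel, map_one, MulAut.one_apply]⟩
    rw [hc', map_mul, MulAut.mul_apply, hi y']
    refine F.swap_eq_one (horth _ ?_ _ hv₀)
    rw [hc₃, mem_mov_conj, ← MulAut.mul_apply, ← map_mul, inv_mul_cancel, map_one, MulAut.one_apply]
    exact hu
  have hfix3 : ∀ v ∈ mov (σ c₃), σ c' v = v := by
    intro v hv
    obtain ⟨w, f, hw, hf, hwf, -⟩ := F.split hr hcc' v
    have hw1 : w = 1 := by
      by_contra hw1
      obtain ⟨x, hx, hx1⟩ := F.nd_mov hr hcc' (hi _) hw hw1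
      obtain ⟨u, hu⟩ := hψ ⟨x, hx⟩
      have hxu : (u : S) / σ c' u = x := congrArg Subtype.val hu
      refine hx1 (F.swap_eq_one ?_)
      have e1 : β x v = 1 := by
        rw [← hxu, div_eq_mul_inv, F.mulL, horth v hv u u.2, one_mul, ← map_inv]
        exact horth2 v hv _ (inv_mem u.2)
      rwa [← hwf, F.mulR, F.perp hr (hi _) hx hf, mul_one] at e1
    rw [hw1, one_mul] at hwf
    rw [← hwf, hf]
  -- contradiction
  obtain ⟨u, hu, hu1⟩ := (Subgroup.bot_or_exists_ne_one _).resolve_left hU0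
  have hyu : σ y' u ∈ mov (σ c₃) := by
    rw [hc₃, mem_mov_conj, ← MulAut.mul_apply, ← map_mul, inv_mul_cancel, map_one, MulAut.one_apply]
    exact hu
  have h4 := hfix3 _ hyu
  rw [hc', ← MulAut.mul_apply, ← map_mul, show y' * y' * y' = y' * (y' * y') by group, map_mul, MulAut.mul_apply] at h4
  exact hu1 (hUU u hu (by rw [hc']; exact (σ y').injective h4))

/-- A normalized `2`-group centralizes a small involution with a root normalizing it, once squares of
its centralizing elements fix the inverted part. -/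
theorem normalized_commute [Finite S] {r : ℕ} [hp : Fact r.Prime] (hr : Odd r) {β : S → S → K} (F : Form r β)
    {D : Type*} [Group D] [Finite D] (hD : IsPGroup 2 D) (σ : D →* MulAut S) (hi : ∀ d, Isom β (σ d))
    (T : Subgroup D) {y : D} (hyT : y ∈ normalizer (T : Set D)) (hy : Root r σ y)
    (hT : ∀ b ∈ T, Commute (σ b) (σ (y * y)) → ∀ u ∈ mov (σ (y * y)), σ (b * b) u = u) :
    ∀ t ∈ T, Commute (σ t) (σ (y * y)) := by
  set c := y * y with hc
  have hcc : σ c * σ c = 1 := hy.1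
  have hcr : Nat.card (mov (σ c)) ≤ r * r := hy.2
  clear_value c
  set C : Subgroup D := (centralizer ({σ c} : Set (MulAut S))).comap σ with hC
  have hmem : ∀ d, d ∈ C ↔ Commute (σ d) (σ c) := fun d => by
    rw [hC, mem_comap, mem_centralizer_singleton_iff]; rfl
  by_contra hne
  set E := T ⊔ zpowers y with hE
  set M := (T ⊓ C) ⊔ zpowers y with hM
  have hyC : y ∈ C := (hmem y).mpr (by rw [hc]; exact ((Commute.refl y).mul_right (Commute.refl y)).map σ)
  have hMC : M ≤ C := sup_le inf_le_right (zpowers_le.mpr hyC)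
  have hME : M ≤ E := sup_le_sup_right inf_le_left _
  have hlt : M.subgroupOf E < ⊤ := lt_top_iff_ne_top.mpr fun e => hne fun t ht =>
    (hmem t).mp (hMC (subgroupOf_eq_top.mp e (mem_sup_left ht)))
  haveI := (hD.to_subgroup E).isNilpotent
  obtain ⟨g, hgn, hgM⟩ := SetLike.exists_of_lt (Group.normalizerCondition_of_isNilpotent (M.subgroupOf E) hlt)
  have hgset : (g : D) ∈ ((T : Set D) * (zpowers y : Set D)) := by
    rw [← coe_mul_of_right_le_normalizer_left T (zpowers y) (zpowers_le.mpr hyT)]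
    exact g.2
  obtain ⟨t, ht, yi, hyi, hgt⟩ := hgset
  have hgN : ∀ m : D, m ∈ M → (g : D) * m * (g : D)⁻¹ ∈ M ∧ (g : D)⁻¹ * m * g ∈ M := by
    intro m hm
    refine ⟨(mem_normalizer_iff.mp hgn ⟨m, hME hm⟩).mp hm, ?_⟩
    have := (mem_normalizer_iff.mp (inv_mem hgn) ⟨m, hME hm⟩).mp hm
    simpa [mem_subgroupOf] using this
  have hyiM : yi ∈ M := mem_sup_right hyi
  have htN : t⁻¹ * y * t ∈ M := by
    have h1 := (hgN y (mem_sup_right (mem_zpowers y))).2
    have h2 := M.mul_mem (M.mul_mem hyiM h1) (M.inv_mem hyiM)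
    convert h2 using 1
    simp only [← hgt]; group
  have htC : t ∉ C := fun h => hgM (show (g : D) ∈ M from hgt ▸ M.mul_mem (mem_sup_left ⟨ht, h⟩) hyiM)
  -- the conjugate commutes with `y`
  set e := σ (t * c * t⁻¹) with he
  have hye : Commute (σ y) e := by
    have h1 : Commute (σ (t⁻¹ * y * t)) (σ c) := (hmem _).mp (hMC htN)
    have h2 := h1.map (MulAut.conj (σ t)).toMonoidHom
    simp only [MulEquiv.coe_toMonoidHom, MulAut.conj_apply] at h2
    rwa [← map_inv, ← map_mul, ← map_mul, ← map_mul, ← map_mul,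
      show t * (t⁻¹ * y * t) * t⁻¹ = y by group] at h2
  have het : Root r σ (t * y * t⁻¹) := hy.conj t
  have htt : t * y * t⁻¹ * (t * y * t⁻¹) = t * c * t⁻¹ := by rw [hc]; group
  have hce : Commute (σ c) e := by
    have := roots_commute hr F hD σ hi y _ hy het
    rw [htt, ← hc] at this
    exact this
  have hfix : ∀ u ∈ mov (σ c), e u = u := by
    refine (F.eq_or_fix hr hcc (by have := het.1; rwa [htt] at this) (hi _) (hi _) hcr
      (by rw [card_mov_conj]; exact hcr) hce).resolve_left fun h => htC ((hmem t).mpr ?_)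
    rw [map_mul, map_mul, map_inv, eq_mul_inv_iff_mul_eq] at h
    exact h.symm
  set b := t⁻¹ * (y * t * y⁻¹) with hb
  have hbT : b ∈ T := T.mul_mem (T.inv_mem ht) ((mem_normalizer_iff.mp hyT t).mp ht)
  have hbc : Commute (σ b) (σ c) := by
    have h1 : Commute (σ y) (σ c) := (hmem y).mp hyC
    show σ b * σ c = σ c * σ b
    have h2 : σ (y * t * y⁻¹) * σ c = e * σ (y * t * y⁻¹) := by
      calc σ (y * t * y⁻¹) * σ c = σ y * σ t * ((σ y)⁻¹ * σ c) := by
            rw [map_mul, map_mul, map_inv, mul_assoc]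
        _ = σ y * σ t * (σ c * (σ y)⁻¹) := by rw [h1.inv_left.eq]
        _ = σ y * e * (σ t * (σ y)⁻¹) := by rw [he, map_mul, map_mul, map_inv]; group
        _ = e * σ y * (σ t * (σ y)⁻¹) := by rw [hye.eq]
        _ = _ := by rw [map_mul, map_mul, map_inv]; group
    rw [hb, map_mul, mul_assoc, h2, he, map_mul, map_mul, map_inv σ t]
    group
  have hU0 : mov (σ c) ≠ ⊥ := fun h0 => htC ((hmem t).mpr (by
    have : σ c = 1 := MulEquiv.ext fun s => by
      obtain ⟨u, f, hu, hf, huf, -⟩ := F.split hr hcc s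
      rw [h0, Subgroup.mem_bot] at hu
      rw [← huf, hu, one_mul, hf, MulAut.one_apply]
    rw [this]; exact Commute.one_right _))
  have hbU : ∀ u ∈ mov (σ c), σ b u ∈ mov (σ c) := fun u hu => by
    rw [mem_mov, ← MulAut.mul_apply, ← hbc.eq, MulAut.mul_apply, mem_mov.mp hu, map_inv]
  have hb2 := hT b hbT hbc
  -- `b` is a scalar on `mov c`
  have hscal : (∀ u ∈ mov (σ c), σ b u = u) ∨ (∀ u ∈ mov (σ c), σ b u = u⁻¹) := by
    obtain ⟨m, hm⟩ := hr
    let U₁ : Subgroup S := mov (σ c) ⊓ (σ b).toMonoidHom.eqLocus (MonoidHom.id S)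
    let U₂ : Subgroup S := mov (σ c) ⊓ mov (σ b)
    have hb2' : ∀ u ∈ mov (σ c), σ b (σ b u) = u := fun u hu => by
      rw [← MulAut.mul_apply, ← map_mul]; exact hb2 u hu
    have hsplit : ∀ u ∈ mov (σ c), ∃ v ∈ U₂, ∃ f ∈ U₁, v * f = u := by
      intro u hu
      refine ⟨(u / σ b u) ^ (m + 1), ⟨pow_mem (div_mem hu (hbU u hu)) _, ?_⟩, (u * σ b u) ^ (m + 1),
        ⟨pow_mem (mul_mem hu (hbU u hu)) _, ?_⟩, ?_⟩
      · show (u / σ b u) ^ (m + 1) ∈ mov (σ b)
        rw [mem_mov, map_pow, map_div, hb2' u hu, ← inv_pow, inv_div]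
      · show σ b ((u * σ b u) ^ (m + 1)) = (u * σ b u) ^ (m + 1)
        rw [map_pow, map_mul, hb2' u hu, mul_comm]
      · rw [← mul_pow, show u / σ b u * (u * σ b u) = u ^ 2 by
            rw [sq, div_eq_mul_inv, mul_mul_mul_comm, inv_mul_cancel, mul_one],
          ← pow_mul, show 2 * (m + 1) = r + 1 by omega, pow_succ, F.exp, one_mul]
    have hperp : ∀ v ∈ U₂, ∀ f ∈ U₁, β v f = 1 := fun v hv f hf =>
      F.perp ⟨m, hm⟩ (hi b) hv.2 hf.2
    have hnd2 : ∀ x ∈ U₂, x ≠ 1 → ∃ w ∈ U₂, β x w ≠ 1 := fun x hx h1 => by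
      obtain ⟨w, hw, hxw⟩ := F.nd_mov ⟨m, hm⟩ hcc (hi _) hx.1 h1
      obtain ⟨v, hv, f, hf, hvf⟩ := hsplit w hw
      exact ⟨v, hv, fun h => hxw (by rw [← hvf, F.mulR, h, hperp x hx f hf, one_mul])⟩
    have hnd1 : ∀ x ∈ U₁, x ≠ 1 → ∃ w ∈ U₁, β x w ≠ 1 := fun x hx h1 => by
      obtain ⟨w, hw, hxw⟩ := F.nd_mov ⟨m, hm⟩ hcc (hi _) hx.1 h1
      obtain ⟨v, hv, f, hf, hvf⟩ := hsplit w hw
      exact ⟨f, hf, fun h => hxw (by rw [← hvf, F.mulR, h, F.swap_eq_one (hperp v hv x hx), one_mul])⟩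
    have hdis : ∀ x, x ∈ U₁ → x ∈ U₂ → x = 1 := fun x h1 h2 => F.eq_one_of_sq ⟨m, hm⟩ (by
      have a : σ b x = x := h1.2
      have b' : σ b x = x⁻¹ := h2.2
      rw [← eq_inv_iff_mul_eq_one, ← b', a])
    by_cases h1 : U₁ = ⊥
    · refine Or.inr fun u hu => ?_
      obtain ⟨v, hv, f, hf, rfl⟩ := hsplit u hu
      rw [show f = 1 by rw [h1] at hf; exact hf, mul_one]; exact hv.2
    refine Or.inl ?_
    by_cases h2 : U₂ = ⊥
    · intro u hu
      obtain ⟨v, hv, f, hf, rfl⟩ := hsplit u hu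
      rw [show v = 1 by rw [h2] at hv; exact hv, one_mul]; exact hf.2
    exfalso
    let φ : U₁ × U₂ → mov (σ c) := fun ab => ⟨(ab.1 : S) * ab.2, mul_mem ab.1.2.1 ab.2.2.1⟩
    have hφ : Function.Injective φ := by
      rintro ⟨a₁, a₂⟩ ⟨b₁, b₂⟩ hab
      have e' : (a₁ : S) * a₂ = b₁ * b₂ := congrArg Subtype.val hab
      have e1 : (b₁ : S)⁻¹ * a₁ = b₂ * (a₂ : S)⁻¹ := by
        rw [inv_mul_eq_iff_eq_mul, ← mul_assoc, eq_mul_inv_iff_mul_eq, e']
      have e2 := hdis _ (U₁.mul_mem (U₁.inv_mem b₁.2) a₁.2) (e1 ▸ U₂.mul_mem b₂.2 (U₂.inv_mem a₂.2))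
      have e3 : a₁ = b₁ := Subtype.ext (inv_mul_eq_one.mp e2).symm
      subst e3
      exact Prod.ext rfl (Subtype.ext (mul_left_cancel e'))
    have hk := (Nat.card_le_card_of_injective φ hφ).trans hcr
    rw [Nat.card_prod] at hk
    have := Nat.mul_le_mul (F.sq_le_card h1 hnd1) (F.sq_le_card h2 hnd2)
    have := hp.out.two_le
    have : r * r < r * r * (r * r) := lt_mul_of_one_lt_right (by nlinarith) (by nlinarith)
    omega
  obtain ⟨u, hu, hu1⟩ := (Subgroup.bot_or_exists_ne_one _).resolve_left hU0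
  have hyU : ∀ v ∈ mov (σ c), σ y v ∈ mov (σ c) := fun v hv => by
    rw [mem_mov, ← MulAut.mul_apply, ← ((hmem y).mp hyC).eq, MulAut.mul_apply, mem_mov.mp hv, map_inv]
  have hyt : ∀ v, σ y (σ t v) = σ t (σ b (σ y v)) := fun v => by
    rw [← MulAut.mul_apply, ← MulAut.mul_apply, ← MulAut.mul_apply, ← map_mul, ← map_mul, ← map_mul]
    congr 2; rw [hb]; group
  have htu : σ y (σ y (σ t u)) = σ t (σ y (σ y u)) := by
    rcases hscal with h | h
    · rw [hyt, h _ (hyU u hu), hyt, h _ (hyU _ (hyU u hu))]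
    · rw [hyt, h _ (hyU u hu), map_inv (σ t), map_inv (σ y), hyt, h _ (hyU _ (hyU u hu)), map_inv (σ t), inv_inv]
  have hcu : σ c (σ t u) = σ t u := by
    have htum : σ t u ∈ mov e := by
      rw [he, mem_mov_conj, ← MulAut.mul_apply, ← map_mul, inv_mul_cancel, map_one, MulAut.one_apply]
      exact hu
    rcases F.eq_or_fix hr (by have := het.1; rwa [htt] at this) hcc (hi _) (hi _)
        (by rw [card_mov_conj]; exact hcr) hcr hce.symm with h | h
    · exfalso
      apply htC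
      rw [hmem]
      rw [map_mul, map_mul, map_inv, mul_inv_eq_iff_eq_mul] at h
      exact h
    · exact h _ htum
  refine hu1 (F.eq_one_of_sq hr ?_)
  apply (σ t).injective
  have h5 : σ t u = σ t u⁻¹ := by
    rw [← mem_mov.mp hu, hc, map_mul, MulAut.mul_apply, ← htu, ← MulAut.mul_apply, ← map_mul, ← hc, hcu]
  rw [map_mul, map_one]
  nth_rw 2 [h5]
  rw [map_inv, mul_inv_cancel]

/-- In characteristic `r = 2 ^ k - 1` a unit `a + b i` of norm one has order dividing `r + 1`. -/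
theorem ring_pow {E : Type*} [Ring E] {r j : ℕ} [hp : Fact r.Prime] [CharP E r] (hrk : r + 1 = 2 ^ (j + 2))
    (J Z : E) (hjj : J * J = -1) {a b : ℕ} (hzeq : Z = (a : E) + (b : E) * J)
    (hnorm : r ∣ (a * a + b * b) + (r - 1)) : Z ^ 2 ^ (j + 2) = 1 := by
  have h4 : r + 1 = 4 * 2 ^ j := by rw [hrk, pow_add]; ring
  have hj := Nat.one_le_two_pow (n := j)
  have hfix : ∀ n : ℕ, (n : E) ^ r = n := fun n => by
    rw [← Nat.cast_pow, CharP.natCast_eq_natCast E r]
    exact (ZMod.natCast_eq_natCast_iff _ _ _).mp (by rw [Nat.cast_pow, ZMod.pow_card])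
  have hjr : J ^ r = -J := by
    rw [show r = 2 * (2 * 2 ^ j - 1) + 1 by omega, pow_succ, pow_mul, sq, hjj,
      Odd.neg_one_pow ⟨2 ^ j - 1, by omega⟩, neg_mul, one_mul]
  have hzr : Z ^ r = (a : E) - (b : E) * J := by
    rw [hzeq, add_pow_char_of_commute _ (Nat.cast_commute a _), hfix, (Nat.cast_commute b J).mul_pow,
      hfix, hjr, mul_neg, sub_eq_add_neg]
  rw [← hrk, pow_succ, hzr, hzeq]
  have hbjj : (b : E) * J * ((b : E) * J) = -((b * b : ℕ) : E) := by
    rw [(Nat.cast_commute b J).symm.mul_mul_mul_comm, hjj, Nat.cast_mul, mul_neg, mul_one]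
  have hab' : (a : E) * ((b : E) * J) = (b : E) * J * a := (Nat.cast_commute a _).eq
  rw [sub_mul, mul_add, mul_add, hab', hbjj, ← Nat.cast_mul]
  have h0 : ((a * a + b * b + (r - 1) : ℕ) : E) = 0 := (CharP.cast_eq_zero_iff _ r _).mpr hnorm
  have h1 : ((r - 1 : ℕ) : E) = -1 := by
    rw [Nat.cast_sub hp.out.one_le, CharP.cast_eq_zero, Nat.cast_one, zero_sub]
  rw [Nat.cast_add, h1, ← sub_eq_add_neg, sub_eq_zero, Nat.cast_add] at h0
  rw [← h0]; abel

/-- An element of odd order commuting with a square root of `-1` on a small inverted part fixes it. -/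
theorem fix_of_commute [Finite S] {r : ℕ} [hp : Fact r.Prime] {β : S → S → K} (F : Form r β) {k : ℕ}
    (hk : 2 ≤ k) (hrk : r + 1 = 2 ^ k) {J Z : MulAut S} (hJ : J * J * (J * J) = 1) (hiJ : Isom β J)
    (hiZ : Isom β Z) (hcard : Nat.card (mov (J * J)) ≤ r * r) (hc : Commute Z J) {N : ℕ} (hN : Odd N)
    (hZ : Z ^ N = 1) : ∀ u ∈ mov (J * J), Z u = u := by
  obtain ⟨j, rfl⟩ : ∃ j, k = j + 2 := ⟨k - 2, by omega⟩
  have hr4 : r + 1 = 4 * 2 ^ j := by rw [hrk, pow_add]; ring
  have hr : Odd r := ⟨2 * 2 ^ j - 1, by have := Nat.one_le_two_pow (n := j); omega⟩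
  set U := mov (J * J) with hUdef
  by_cases hU : U = ⊥
  · intro u hu; rw [hU, Subgroup.mem_bot] at hu; rw [hu, map_one]
  have hJJ : ∀ u ∈ U, J (J u) = u⁻¹ := fun u hu => by rw [← MulAut.mul_apply]; exact mem_mov.mp hu
  have hJU : ∀ u ∈ U, J u ∈ U := fun u hu => by
    rw [hUdef, mem_mov, MulAut.mul_apply, hJJ u hu, map_inv]
  have hZU : ∀ u ∈ U, Z u ∈ U := fun u hu => by
    have h1 : Commute Z (J * J) := hc.mul_right hc
    rw [hUdef, mem_mov, ← MulAut.mul_apply, ← h1.eq, MulAut.mul_apply, mem_mov.mp hu, map_inv]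
  obtain ⟨u₀, hu₀, hu₁⟩ := (Subgroup.bot_or_exists_ne_one U).resolve_left hU
  set v₀ := J u₀ with hv₀
  have hg : β u₀ v₀ ≠ 1 := by
    intro hg
    have hiso : Isom β (J * J) := fun a b => by rw [MulAut.mul_apply, MulAut.mul_apply, hiJ, hiJ]
    obtain ⟨w, hw, huw⟩ := F.nd_mov hr hJ hiso hu₀ hu₁
    -- `v₀` is then a power of `u₀`
    set X := zpowers u₀ ⊔ zpowers v₀ with hX
    have hXU : X ≤ U := sup_le (zpowers_le.mpr hu₀) (zpowers_le.mpr (hJU u₀ hu₀))
    have hperpX : ∀ x ∈ X, β u₀ x = 1 := by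
      let A : Subgroup S :=
        { carrier := {x | β u₀ x = 1}
          one_mem' := F.one_right u₀
          mul_mem' := fun {a b} ha hb => by
            show β u₀ (a * b) = 1
            rw [F.mulR, show β u₀ a = 1 from ha, show β u₀ b = 1 from hb, one_mul]
          inv_mem' := fun {a} ha => by
            show β u₀ a⁻¹ = 1
            have h := F.mulR u₀ a a⁻¹
            rw [mul_inv_cancel, F.one_right, show β u₀ a = 1 from ha, one_mul] at h
            exact h.symm }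
      exact fun x hx => (sup_le (zpowers_le.mpr (F.alt u₀)) (zpowers_le.mpr hg) : X ≤ A) hx
    have hXlt : Nat.card X < r * r := by
      refine lt_of_lt_of_le ?_ hcard
      have hss : X < U := lt_of_le_of_ne hXU fun e => huw (hperpX w (e ▸ hw))
      by_contra hge
      exact hss.ne (Subgroup.eq_of_le_of_card_ge hss.le (not_lt.mp hge))
    have hXr : Nat.card X ≤ r := by
      have hrp : IsPGroup r X := fun x => ⟨1, Subtype.ext (by simp [F.exp])⟩
      obtain ⟨a, ha⟩ := IsPGroup.iff_card.mp hrp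
      rw [ha] at hXlt ⊢
      have : a < 2 := (Nat.pow_lt_pow_iff_right hp.out.one_lt).mp (by rwa [sq])
      calc r ^ a ≤ r ^ 1 := Nat.pow_le_pow_right hp.out.pos (by omega)
        _ = r := pow_one r
    have hXz : zpowers u₀ = X := Subgroup.eq_of_le_of_card_ge le_sup_left (by
      rw [Nat.card_zpowers, orderOf_eq_prime (F.exp u₀) hu₁]; exact hXr)
    obtain ⟨a, ha⟩ := (isOfFinOrder_of_finite u₀).mem_powers_iff_mem_zpowers.mpr
      (hXz.symm ▸ mem_sup_right (mem_zpowers v₀) : v₀ ∈ zpowers u₀)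
    have ha' : u₀ ^ a = v₀ := ha
    have h1 : J v₀ = u₀⁻¹ := hJJ u₀ hu₀
    rw [← ha', map_pow, ← hv₀, ← ha', ← pow_mul] at h1
    -- `a ^ 2 + 1 ≡ 0` has no solution
    have h2 : u₀ ^ (a * a + 1) = 1 := by rw [pow_succ, h1, inv_mul_cancel]
    have h3 : r ∣ a * a + 1 := by
      have := orderOf_dvd_of_pow_eq_one h2
      rwa [orderOf_eq_prime (F.exp u₀) hu₁] at this
    have h4 : ((a : ZMod r)) ^ 2 = -1 := by
      rw [eq_neg_iff_add_eq_zero, sq]
      exact_mod_cast ((ZMod.natCast_eq_zero_iff (a * a + 1) r).mpr h3)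
    exact ZMod.mod_four_ne_three_of_sq_eq_neg_one h4 (by omega)
  -- coordinates
  have ho : orderOf (β u₀ v₀) = r := orderOf_eq_prime (F.pow_r _ _) hg
  have hgen : ∀ u ∈ U, ∃ a b : ℕ, u = u₀ ^ a * v₀ ^ b := by
    intro u hu
    have hle : zpowers u₀ ⊔ zpowers v₀ ≤ U := sup_le (zpowers_le.mpr hu₀) (zpowers_le.mpr (hJU u₀ hu₀))
    have hcardX : r * r ≤ Nat.card (zpowers u₀ ⊔ zpowers v₀ : Subgroup S) := by
      let φ : Fin r × Fin r → (zpowers u₀ ⊔ zpowers v₀ : Subgroup S) := fun ij =>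
        ⟨u₀ ^ (ij.1 : ℕ) * v₀ ^ (ij.2 : ℕ), mul_mem_sup (pow_mem (mem_zpowers _) _) (pow_mem (mem_zpowers _) _)⟩
      have hφ : Function.Injective φ := by
        rintro ⟨i, l⟩ ⟨i', l'⟩ h
        have h' : u₀ ^ (i : ℕ) * v₀ ^ (l : ℕ) = u₀ ^ (i' : ℕ) * v₀ ^ (l' : ℕ) := congrArg Subtype.val h
        have h1 := congrArg (fun s => β s v₀) h'
        have h2 := congrArg (fun s => β u₀ s) h'
        simp only [F.mulL, F.mulR, F.pow_left, F.pow_right, F.alt, one_pow, mul_one, one_mul] at h1 h2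
        refine Prod.ext (Fin.ext ?_) (Fin.ext ?_)
        · exact pow_injOn_Iio_orderOf (show (i : ℕ) ∈ Set.Iio _ by rw [ho]; exact i.2)
            (show (i' : ℕ) ∈ Set.Iio _ by rw [ho]; exact i'.2) h1
        · exact pow_injOn_Iio_orderOf (show (l : ℕ) ∈ Set.Iio _ by rw [ho]; exact l.2)
            (show (l' : ℕ) ∈ Set.Iio _ by rw [ho]; exact l'.2) h2
      have := Nat.card_le_card_of_injective φ hφ
      rwa [Nat.card_prod, Nat.card_fin] at this
    have heq := Subgroup.eq_of_le_of_card_ge hle (hcard.trans hcardX)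
    rw [← heq, mem_sup] at hu
    obtain ⟨x, hx, y, hy, rfl⟩ := hu
    obtain ⟨a, rfl⟩ := (isOfFinOrder_of_finite u₀).mem_powers_iff_mem_zpowers.mpr hx
    obtain ⟨b, rfl⟩ := (isOfFinOrder_of_finite v₀).mem_powers_iff_mem_zpowers.mpr hy
    exact ⟨a, b, rfl⟩
  obtain ⟨a, b, hab⟩ := hgen (Z u₀) (hZU u₀ hu₀)
  have hJv : J v₀ = u₀⁻¹ := hJJ u₀ hu₀
  have hZv : Z v₀ = v₀ ^ a * (u₀⁻¹) ^ b := by
    rw [hv₀, ← MulAut.mul_apply, hc.eq, MulAut.mul_apply, hab, map_mul, map_pow, map_pow, hJv]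
  -- `a ^ 2 + b ^ 2 ≡ 1`
  have hnorm : r ∣ (a * a + b * b) + (r - 1) := by
    have h1 := hiZ u₀ v₀
    rw [hab, hZv, F.mulL, F.mulR, F.mulR, F.pow_left, F.pow_left, F.pow_left, F.pow_left, F.pow_right,
      F.pow_right, F.pow_right, F.pow_right, F.alt, one_pow, one_pow] at h1
    have hswap : β u₀ u₀⁻¹ = 1 := by
      have h := F.mulR u₀ u₀ u₀⁻¹
      rw [mul_inv_cancel, F.one_right, F.alt, one_mul] at h
      exact h.symm
    have hswap2 : β v₀ u₀⁻¹ = β u₀ v₀ := by
      have h := F.mulR v₀ u₀ u₀⁻¹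
      rw [mul_inv_cancel, F.one_right] at h
      have h' := F.swap u₀ v₀
      calc β v₀ u₀⁻¹ = β v₀ u₀⁻¹ * (β u₀ v₀ * β v₀ u₀) := by rw [h', mul_one]
        _ = β u₀ v₀ * (β v₀ u₀ * β v₀ u₀⁻¹) := by ring
        _ = β u₀ v₀ := by rw [← h, mul_one]
    rw [hswap, hswap2, one_pow, one_pow, mul_one, one_mul, ← pow_mul, ← pow_mul, ← pow_add] at h1
    have h2 : β u₀ v₀ ^ (a * a + b * b + (r - 1)) = 1 := by
      rw [pow_add, h1, ← pow_succ', Nat.sub_add_cancel hp.out.pos, F.pow_r]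
    have := orderOf_dvd_of_pow_eq_one h2
    rwa [ho] at this
  -- compute in the endomorphism ring
  let jU : AddMonoid.End (Additive ↥U) := MonoidHom.toAdditive
    { toFun := fun u => ⟨J u, hJU u u.2⟩, map_one' := by ext; simp, map_mul' := fun x y => by ext; simp }
  let zU : AddMonoid.End (Additive ↥U) := MonoidHom.toAdditive
    { toFun := fun u => ⟨Z u, hZU u u.2⟩, map_one' := by ext; simp, map_mul' := fun x y => by ext; simp }
  have hexp : ∀ x : Additive ↥U, r • x = 0 := fun x => Additive.toMul.injective (Subtype.ext (by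
    simp [F.exp]))
  haveI hnt : Nontrivial (Additive ↥U) := by
    haveI := (Subgroup.nontrivial_iff_ne_bot U).mpr hU
    infer_instance
  haveI : Nontrivial (AddMonoid.End (Additive ↥U)) := by
    obtain ⟨x, hx⟩ := exists_ne (0 : Additive ↥U)
    exact ⟨⟨1, 0, fun h => hx (by simpa using DFunLike.congr_fun h x)⟩⟩
  have hcast : ∀ (n : ℕ) (x : Additive ↥U), (n : AddMonoid.End (Additive ↥U)) x = n • x := fun n x => by
    simp
  have hadd : ∀ (f g : AddMonoid.End (Additive ↥U)) (x : Additive ↥U), (f + g) x = f x + g x := fun _ _ _ => rfl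
  have hmul : ∀ (f g : AddMonoid.End (Additive ↥U)) (x : Additive ↥U), (f * g) x = f (g x) := fun _ _ _ => rfl
  haveI : CharP (AddMonoid.End (Additive ↥U)) r := ⟨fun n => by
    constructor
    · intro h
      obtain ⟨x, hx⟩ := exists_ne (0 : Additive ↥U)
      have h1 : n • x = 0 := by rw [← hcast, h]; rfl
      have h2 : addOrderOf x = r := addOrderOf_eq_prime (hexp x) hx
      rw [← h2]
      exact addOrderOf_dvd_of_nsmul_eq_zero h1
    · rintro ⟨m, rfl⟩
      refine AddMonoidHom.ext fun x => ?_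
      show ((r * m : ℕ) : AddMonoid.End (Additive ↥U)) x = 0
      rw [hcast, mul_comm, mul_nsmul', hexp, smul_zero]
      ⟩
  have hjj : jU * jU = -1 := AddMonoidHom.ext fun x => Additive.toMul.injective (Subtype.ext (by
    show J (J ((Additive.toMul x : ↥U) : S)) = ((Additive.toMul x : ↥U) : S)⁻¹
    exact hJJ _ (Additive.toMul x).2))
  have hzeq : zU = (a : AddMonoid.End (Additive ↥U)) + (b : AddMonoid.End (Additive ↥U)) * jU := by
    refine AddMonoidHom.ext fun x => Additive.toMul.injective (Subtype.ext ?_)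
    show Z ((Additive.toMul x : ↥U) : S) = _
    show Z ((Additive.toMul x : ↥U) : S) = ((Additive.toMul
      ((a : AddMonoid.End (Additive ↥U)) x + (b : AddMonoid.End (Additive ↥U)) (jU x)) : ↥U) : S)
    rw [hcast, hcast, toMul_add, toMul_nsmul, toMul_nsmul,
      Subgroup.coe_mul, SubmonoidClass.coe_pow, SubmonoidClass.coe_pow]
    show Z ((Additive.toMul x : ↥U) : S) = _ * J ((Additive.toMul x : ↥U) : S) ^ b
    obtain ⟨a', b', hx⟩ := hgen _ (Additive.toMul x).2
    rw [hx, map_mul, map_mul, map_pow, map_pow, map_pow, map_pow, hab, hZv, ← hv₀, hJv]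
    simp only [mul_pow, ← pow_mul, inv_pow]
    rw [mul_comm a a', mul_comm a b', mul_comm b b', mul_comm b a']
    rw [mul_mul_mul_comm]
  have hz2k : zU ^ 2 ^ (j + 2) = 1 := ring_pow hrk jU zU hjj hzeq hnorm
  intro u hu
  have hpw : ∀ (n : ℕ) (x : ↥U), (((zU ^ n) (Additive.ofMul x)).toMul : S) = (Z ^ n) (x : S) := by
    intro n
    induction n with
    | zero => intro x; simp
    | succ n ih =>
      intro x
      rw [pow_succ', hmul, pow_succ', MulAut.mul_apply, ← ih x]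
      rfl
  have hzN : zU ^ N = 1 := AddMonoidHom.ext fun x => Additive.toMul.injective (Subtype.ext (by
    show (((zU ^ N) x).toMul : S) = ((Additive.toMul x : ↥U) : S)
    have := hpw N (Additive.toMul x)
    rw [hZ, MulAut.one_apply] at this
    exact this))
  have h1 : zU = 1 := by
    have hcop : Nat.Coprime N (2 ^ (j + 2)) := hN.coprime_two_right.pow_right _
    have := (pow_gcd_eq_one).mpr ⟨hzN, hz2k⟩
    rwa [hcop, pow_one] at this
  have := congrArg (fun f : AddMonoid.End (Additive ↥U) => ((f (Additive.ofMul ⟨u, hu⟩)).toMul : S)) h1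
  exact this

end Cfsg.Agent.Grp.Gross
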