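import Mathlib
import Cfsg.Agent.Lib.Transfer.HallHighB

/-!
The Hall–Higman dichotomy on a section, recording the commutator part in the exceptional case.
-/

set_option autoImplicit false
set_option linter.style.haveILetI false
set_option linter.unusedSectionVars false

namespace Cfsg.Agent.Grp.Gross

open Module Cfsg.Agent.Grp Cfsg.Agent.Grp.HHExc Cfsg.Agent.Transfer.HHB
open scoped commutatorElement TensorProduct

variable {K : Type*} [Field K] {V : Type*} [AddCommGroup V] [Module K V]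
  {Γ : Type*} [Group Γ] [Finite Γ] {ρ : Γ →* Module.End K V}

/-- The action of `c` on `Q` modulo the radical. -/
theorem section_dichotomy_full [IsAlgClosed K] [FiniteDimensional K V] {p q : ℕ} [hp : Fact p.Prime]
    [hq : Fact q.Prime] [CharP K p] {Q Z : Subgroup Γ} (S : Setting p Q Z)
    (hQ : IsPGroup q Q) {x : Γ} (hxQ : x ∈ Subgroup.normalizer (Q : Set Γ))
    (hxZ : x ∈ Subgroup.normalizer (Z : Set Γ)) {m : ℕ} (hx : x ^ p ^ (m + 1) = 1) {s : ℕ}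
    (hs : (ρ x - 1) ^ s = 0) (hsm : s ≤ p ^ (m + 1) - 1) {ω : Γ → K} (hW : chEigen ρ Z ω ≠ ⊥) :
    x ^ p ^ m ∈ stab Q Z ω ∧
    (∀ r ∈ rad S hW, ∀ v ∈ chEigen ρ Z ω, ρ (x ^ p ^ m * r * (x ^ p ^ m)⁻¹) v = ρ r v) ∧
    ((∀ g ∈ Q, g⁻¹ * (x ^ p ^ m * g * (x ^ p ^ m)⁻¹) ∈ rad S hW) ∨
      ∃ k b : ℕ, k ≠ 0 ∧ k ≤ m + 1 ∧ b ≠ 0 ∧ p ^ k = q ^ b + 1 ∧
        x ^ p ^ (m + 1 - k) ∈ stab Q Z ω ∧
        ∃ Q1 : Subgroup Γ, rad S hW ≤ Q1 ∧ Q1 ≤ Q ∧
          (∀ g ∈ Q, g⁻¹ * (x ^ p ^ m * g * (x ^ p ^ m)⁻¹) ∈ Q1) ∧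
          (rad S hW).relIndex Q1 = q ^ b * q ^ b) := by
  classical
  obtain ⟨j, hjm, hjZ, hker⟩ := orbit_bound ρ Z hxZ hx hW hs hsm
  set x' := x ^ p ^ j with hx'def
  set c := x ^ p ^ m with hcdef
  have hx'S : x' ∈ stab Q Z ω := ⟨Subgroup.pow_mem _ hxQ _, Subgroup.pow_mem _ hxZ _, hjZ⟩
  have hcx' : c = x' ^ p ^ (m - j) := by
    rw [hcdef, hx'def, ← pow_mul, ← pow_add, show j + (m - j) = m by omega]
  have hcS : c ∈ stab Q Z ω := hcx' ▸ Subgroup.pow_mem _ hx'S _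
  set R := rad S hW with hRdef
  have hRQ : R ≤ Q := fun g hg => (mem_rad.mp hg).1
  have hconjR : ∀ g ∈ stab Q Z ω, ∀ a ∈ R, g * a * g⁻¹ ∈ R := fun g hg a ha => conj_mem_rad hg ha
  have hpK : ∀ n : ℕ, ¬ p ∣ n → (n : K) ≠ 0 := fun n hn e => hn ((CharP.cast_eq_zero_iff K p n).mp e)
  have hcp : c ^ p = 1 := by rw [hcdef, ← pow_mul, ← pow_succ, hx]
  set W := chEigen ρ Z ω with hWdef
  haveI : Nontrivial W := Submodule.nontrivial_iff_ne_bot.mpr hW
  set Γω := stab Q Z ω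
  set ρW := restr (ρ := ρ) Q Z ω
  have hQS : Q ≤ Γω := setting_le_stab S ω
  have hρWsub : ∀ (n : ℕ) (v : W),
      ((((ρW ⟨x', hx'S⟩ - 1) ^ n) v : W) : V) = ((ρ x' - 1) ^ n) v := by
    intro n
    induction n with
    | zero => intro v; rfl
    | succ n ih =>
      intro v
      rw [pow_succ, Module.End.mul_apply, pow_succ, Module.End.mul_apply, ih]
      congr 1
  have hnil : ∀ r, s ≤ p ^ j * r + (p ^ j - 1) → (ρW ⟨x', hx'S⟩ - 1) ^ r = 0 := fun r hr =>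
    LinearMap.ext fun v => Subtype.ext (by rw [hρWsub]; exact hker s r hs hr v v.2)
  have hfix : ∀ r ∈ R, ∀ v ∈ W, ρ (c * r * c⁻¹) v = ρ r v := by
    set R' := R.subgroupOf Γω
    have hR'c : ∀ a ∈ R', ∀ b ∈ R', ρW a * ρW b = ρW b * ρW a := by
      intro a ha b hb
      refine LinearMap.ext fun v => Subtype.ext ?_
      rw [Module.End.mul_apply, Module.End.mul_apply, coe_restr, coe_restr, coe_restr, coe_restr]
      have hb : (b : Γ) ∈ R := hb
      have ha : (a : Γ) ∈ R := ha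
      have hc' : ⁅(a : Γ), (b : Γ)⁆ ∈ Z := S.comm _ (hRQ hb) _ (hRQ ha)
      have h2 : ρ ((a : Γ) * b) = ρ ⁅(a : Γ), (b : Γ)⁆ * ρ ((b : Γ) * a) := by
        rw [← map_mul]; congr 1; simp only [commutatorElement_def]; group
      rw [← Module.End.mul_apply, ← map_mul, h2, Module.End.mul_apply,
        (mem_chEigen ρ).mp (apply_mem_chEigen ρ (hQS (Q.mul_mem (hRQ hb) (hRQ ha))).2.1
          (hQS (Q.mul_mem (hRQ hb) (hRQ ha))).2.2 v.2) _ hc',
        (mem_rad.mp hb).2 _ (hRQ ha), one_smul, map_mul, Module.End.mul_apply]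
    have hR'card : (Nat.card R' : K) ≠ 0 := by
      refine hpK _ fun hd => S.coprime ?_
      rw [Nat.card_congr (Subgroup.subgroupOfEquivOfLe (hRQ.trans hQS)).toEquiv] at hd
      exact hd.trans (Subgroup.card_dvd_of_le hRQ)
    have hxn : (⟨x', hx'S⟩ : Γω) ∈ Subgroup.normalizer (R' : Set Γω) := by
      refine Subgroup.mem_normalizer_iff.mpr fun a => ⟨fun ha => hconjR _ hx'S _ ha, fun ha => ?_⟩
      have := hconjR _ (inv_mem hx'S) _ (show x' * (a : Γ) * x'⁻¹ ∈ R from ha)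
      show (a : Γ) ∈ R
      simpa [mul_assoc] using this
    have hxh' : (⟨x', hx'S⟩ : Γω) ^ p ^ (m - j + 1) = 1 := Subtype.ext (by
      show x' ^ p ^ (m - j + 1) = 1
      rw [hx'def, ← pow_mul, ← pow_add, show j + (m - j + 1) = m + 1 by omega, hx])
    intro r hr v hv
    have htop := iSup_chEigen_eq_top ρW R' hR'c hR'card
    suffices h : ρW ⟨c * r * c⁻¹, mul_mem (mul_mem hcS (hQS (hRQ hr))) (inv_mem hcS)⟩ =
        ρW ⟨r, hQS (hRQ hr)⟩ from congrArg Subtype.val (LinearMap.congr_fun h ⟨v, hv⟩)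
    rw [← LinearMap.eqLocus_eq_top, eq_top_iff, ← htop]
    refine iSup_le fun χ => ?_
    rcases eq_or_ne (chEigen ρW R' χ) ⊥ with hb | hb
    · rw [hb]; exact bot_le
    intro u hu
    have hple : 1 ≤ p ^ j := pow_pos hp.out.pos j
    have hpm : p ^ j * p ^ (m - j + 1) = p ^ (m + 1) := by
      rw [← pow_add, show j + (m - j + 1) = m + 1 by omega]
    obtain ⟨i, him, hi, -⟩ := orbit_bound ρW R' hxn hxh' hb (s := p ^ (m - j + 1) - 1) (hnil _ (by
      rw [Nat.mul_sub_one, hpm]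
      have : p ^ j ≤ p ^ (m + 1) := Nat.pow_le_pow_right hp.out.pos (by omega)
      omega)) le_rfl
    set y : Γω := (⟨x', hx'S⟩ : Γω) ^ p ^ (m - j) with hy
    have hyc : (y : Γ) = c := by
      rw [hy, SubmonoidClass.coe_pow, hcx']
    have hyfix : ∀ a ∈ R', χ (y * a * y⁻¹) = χ a := by
      have key : ∀ t : ℕ, ∀ a ∈ R', χ (((⟨x', hx'S⟩ : Γω) ^ p ^ i) ^ t * a * (((⟨x', hx'S⟩ : Γω) ^ p ^ i) ^ t)⁻¹) = χ a := by
        intro t
        induction t with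
        | zero => intro a _; simp
        | succ t ih =>
          intro a ha
          rw [← ih a ha, ← hi (((⟨x', hx'S⟩ : Γω) ^ p ^ i) ^ t * a * (((⟨x', hx'S⟩ : Γω) ^ p ^ i) ^ t)⁻¹)
            ((Subgroup.mem_normalizer_iff.mp (Subgroup.pow_mem _ (Subgroup.pow_mem _ hxn _) t) a).mp ha)]
          congr 1
          rw [pow_succ']; group
      intro a ha
      rw [hy, show p ^ (m - j) = p ^ i * p ^ (m - j - i) by rw [← pow_add]; congr 1; omega, pow_mul]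
      exact key _ a ha
    have ha : (⟨r, hQS (hRQ hr)⟩ : Γω) ∈ R' := hr
    have hb' : (⟨c * r * c⁻¹, mul_mem (mul_mem hcS (hQS (hRQ hr))) (inv_mem hcS)⟩ : Γω) ∈ R' :=
      hconjR _ hcS _ hr
    show ρW _ u = ρW _ u
    rw [(mem_chEigen ρW).mp hu _ hb', (mem_chEigen ρW).mp hu _ ha, ← hyfix _ ha]
    congr 2
    exact Subtype.ext (by simp [hyc])
  refine ⟨hcS, hfix, ?_⟩
  -- the quotient by the radical
  set Rq := R.subgroupOf Q
  haveI hRqn : Rq.Normal := ⟨fun a ha g => hconjR _ (hQS g.2) _ ha⟩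
  have hcommRq : ∀ a b : Q, ((a : Q ⧸ Rq) : Q ⧸ Rq) * b = (b : Q ⧸ Rq) * a := by
    intro a b
    rw [← QuotientGroup.mk_mul, ← QuotientGroup.mk_mul, QuotientGroup.eq]
    show (((a * b)⁻¹ * (b * a) : Q) : Γ) ∈ rad S hW
    refine mem_rad.mpr ⟨((a * b)⁻¹ * (b * a)).2, fun t ht => ?_⟩
    have hz : ((a : Γ) * b)⁻¹ * ((b : Γ) * a) ∈ Z := by
      have := S.comm _ (Q.inv_mem a.2) _ (Q.inv_mem b.2)
      rwa [show ⁅(b : Γ)⁻¹, (a : Γ)⁻¹⁆ = ((a : Γ) * b)⁻¹ * ((b : Γ) * a) by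
        simp only [commutatorElement_def]; group] at this
    have h1 : t * (((a * b)⁻¹ * (b * a) : Q) : Γ) = (((a * b)⁻¹ * (b * a) : Q) : Γ) * t :=
      S.central _ hz t ht
    rw [commutatorElement_eq_one_iff_mul_comm.mpr h1]
    exact (ch_mul ρ hW).1
  letI : CommGroup (Q ⧸ Rq) := { (inferInstance : Group (Q ⧸ Rq)) with
    mul_comm := fun a b => by
      obtain ⟨a, rfl⟩ := QuotientGroup.mk_surjective a
      obtain ⟨b, rfl⟩ := QuotientGroup.mk_surjective b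
      exact hcommRq a b }
  let cQ : Q →* Q :=
    { toFun := fun a => ⟨c * a * c⁻¹, (Subgroup.mem_normalizer_iff.mp hcS.1 a).mp a.2⟩
      map_one' := Subtype.ext (by simp)
      map_mul' := fun a b => Subtype.ext (by simp [mul_assoc]) }
  let φ : Q ⧸ Rq →* Q ⧸ Rq := QuotientGroup.map Rq Rq cQ (fun a ha => hconjR _ hcS _ ha)
  have hφ : ∀ a : Q, φ a = (cQ a : Q) := fun a => rfl
  have hφn : ∀ (n : ℕ) (a : Q), ∃ h, (φ^[n]) a = ((⟨c ^ n * a * (c ^ n)⁻¹, h⟩ : Q) : Q ⧸ Rq) := by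
    intro n
    induction n with
    | zero => intro a; exact ⟨by simp, by simp⟩
    | succ n ih =>
      intro a
      obtain ⟨h, e⟩ := ih a
      refine ⟨(Subgroup.mem_normalizer_iff.mp (Subgroup.pow_mem _ hcS.1 _) a).mp a.2, ?_⟩
      rw [Function.iterate_succ_apply', e, hφ]
      congr 1
      apply Subtype.ext
      show c * (c ^ n * a * (c ^ n)⁻¹) * c⁻¹ = c ^ (n + 1) * a * (c ^ (n + 1))⁻¹
      rw [pow_succ']; group
  have hφp : ∀ u, φ^[p] u = u := by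
    intro u
    obtain ⟨a, rfl⟩ := QuotientGroup.mk_surjective u
    obtain ⟨h, e⟩ := hφn p a
    rw [e]; congr 1; exact Subtype.ext (by simp [hcp])
  let f : Q ⧸ Rq →* Q ⧸ Rq := φ / MonoidHom.id _
  have hf : ∀ u, f u = φ u / u := fun u => rfl
  let N : Q ⧸ Rq → Q ⧸ Rq := fun u => ∏ i ∈ Finset.range p, φ^[i] u
  have hNφ : ∀ u, N (φ u) = N u := by
    intro u
    have h1 : (∏ i ∈ Finset.range p, φ^[i] (φ u)) * φ^[0] u = (∏ i ∈ Finset.range p, φ^[i] u) * φ^[p] u := by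
      rw [← Finset.prod_range_succ (fun i => φ^[i] u) p, Finset.prod_range_succ']
      congr 1
    rw [hφp] at h1
    exact mul_right_cancel h1
  have hNf : ∀ u, N (f u) = 1 := fun u => by
    have : ∀ i, φ^[i] (φ u / u) = φ^[i] (φ u) / φ^[i] u := by
      intro i
      induction i with
      | zero => rfl
      | succ i ih => rw [Function.iterate_succ_apply', Function.iterate_succ_apply', Function.iterate_succ_apply', ih, map_div]
    show ∏ i ∈ Finset.range p, φ^[i] (f u) = 1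
    simp only [hf, this, Finset.prod_div_distrib]
    exact div_eq_one.mpr (hNφ u)
  have hcopQ : (Nat.card (Q ⧸ Rq)).Coprime p := by
    refine ((hp.out.coprime_iff_not_dvd.mpr fun hd => S.coprime ?_)).symm
    exact hd.trans Rq.card_quotient_dvd_card
  -- the commutator part
  let Q1 : Subgroup Γ :=
    (f.range.comap (QuotientGroup.mk' Rq)).map Q.subtype
  have hQ1Q : Q1 ≤ Q := Subgroup.map_subtype_le _
  have hRQ1 : R ≤ Q1 := fun r hr => ⟨⟨r, hRQ hr⟩,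
    show QuotientGroup.mk' Rq ⟨r, hRQ hr⟩ ∈ f.range by
      rw [show QuotientGroup.mk' Rq ⟨r, hRQ hr⟩ = 1 from (QuotientGroup.eq_one_iff _).mpr hr]
      exact f.range.one_mem, rfl⟩
  have hQ1mem : ∀ g : Q, (g : Γ) ∈ Q1 ↔ (g : Q ⧸ Rq) ∈ f.range := fun g =>
    ⟨fun ⟨a, ha, e⟩ => by rw [← Subtype.ext e]; exact ha, fun h => ⟨g, h, rfl⟩⟩
  have hQ1c : ∀ g ∈ Q, g⁻¹ * (c * g * c⁻¹) ∈ Q1 := by
    intro g hg
    refine (hQ1mem ((⟨g, hg⟩ : Q)⁻¹ * cQ ⟨g, hg⟩)).mpr ⟨((⟨g, hg⟩ : Q) : Q ⧸ Rq), ?_⟩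
    rw [hf, hφ, div_eq_inv_mul]; rfl
  -- fixed points in the commutator part are trivial
  have hfpf : ∀ g ∈ Q1, g⁻¹ * (c * g * c⁻¹) ∈ R → g ∈ R := by
    intro g hg hgc
    have hgQ := hQ1Q hg
    set u : Q ⧸ Rq := ((⟨g, hgQ⟩ : Q) : Q ⧸ Rq) with hu
    have hφu : φ u = u := by
      rw [hu, hφ, eq_comm, QuotientGroup.eq]
      exact hgc
    obtain ⟨w, hw⟩ := (hQ1mem ⟨g, hgQ⟩).mp hg
    have h1 : N u = u ^ p := by
      have : ∀ i, φ^[i] u = u := fun i => Function.IsFixedPt.iterate hφu i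
      show ∏ i ∈ Finset.range p, φ^[i] u = u ^ p
      simp [this]
    rw [show N u = 1 by rw [show u = f w from hw.symm]; exact hNf w] at h1
    have h2 : orderOf u ∣ Nat.gcd (Nat.card (Q ⧸ Rq)) p :=
      Nat.dvd_gcd (orderOf_dvd_natCard u) (orderOf_dvd_of_pow_eq_one h1.symm)
    rw [hcopQ.gcd_eq_one, Nat.dvd_one, orderOf_eq_one_iff] at h2
    rw [hu] at h2
    exact (QuotientGroup.eq_one_iff (⟨g, hgQ⟩ : Q)).mp h2
  by_cases hQ1R : Q1 = R
  · exact Or.inl fun g hg => hQ1R ▸ hQ1c g hg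
  refine Or.inr ?_
  -- the form is non-degenerate on the commutator part
  have hnd : ∀ g ∈ Q1, g ∉ R → ∃ t ∈ Q1, ω ⁅t, g⁆ ≠ 1 := by
    intro g hg hgR
    by_contra hcon
    push Not at hcon
    apply hgR
    have hgQ := hQ1Q hg
    -- the pairing with `g` is a character of `Q ⧸ Rq`
    let β : Q →* K :=
      { toFun := fun t => ω ⁅(t : Γ), g⁆
        map_one' := by rw [Subgroup.coe_one, commutatorElement_one_left, (ch_mul ρ hW).1]
        map_mul' := fun a b => by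
          have h := S.central _ (S.comm g hgQ _ b.2) (a : Γ) a.2
          rw [show ⁅((a * b : Q) : Γ), g⁆ = (a : Γ) * ⁅(b : Γ), g⁆ * (a : Γ)⁻¹ * ⁅(a : Γ), g⁆ by
              simp only [Subgroup.coe_mul, commutatorElement_def]; group, h, mul_inv_cancel_right,
            (ch_mul ρ hW).2 _ (S.comm g hgQ _ b.2) _ (S.comm g hgQ _ a.2), mul_comm] }
    have hβR : Rq ≤ β.ker := by
      intro a ha
      rw [MonoidHom.mem_ker]
      show ω ⁅(a : Γ), g⁆ = 1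
      have h1 := (mem_rad.mp (show (a : Γ) ∈ R from ha)).2 g hgQ
      have h2 := ch_inv ρ hW (S.comm (a : Γ) a.2 g hgQ)
      rw [commutatorElement_inv, h1, one_mul] at h2
      exact h2
    let βb : Q ⧸ Rq →* K := QuotientGroup.lift Rq β hβR
    have hker : ∀ w ∈ f.range, βb w = 1 := by
      intro w hw
      obtain ⟨a, rfl⟩ := QuotientGroup.mk_surjective w
      exact hcon a ((hQ1mem a).mpr hw)
    refine mem_rad.mpr ⟨hgQ, fun t ht => ?_⟩
    set u : Q ⧸ Rq := ((⟨t, ht⟩ : Q) : Q ⧸ Rq) with hu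
    have h1 : ∀ i, βb (φ^[i] u) = βb u := by
      intro i
      induction i with
      | zero => rfl
      | succ i ih =>
        rw [Function.iterate_succ_apply', ← ih]
        have := hker (f (φ^[i] u)) ⟨_, rfl⟩
        rw [hf, div_eq_inv_mul, map_mul] at this
        have h3 : βb (φ^[i] u) * βb (φ^[i] u)⁻¹ = 1 := by rw [← map_mul, mul_inv_cancel, map_one]
        calc βb (φ (φ^[i] u)) = (βb (φ^[i] u) * βb (φ^[i] u)⁻¹) * βb (φ (φ^[i] u)) := by rw [h3, one_mul]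
          _ = βb (φ^[i] u) := by rw [mul_assoc, this, mul_one]
    -- the pairing kills fixed points of `c`
    have h2 : βb (N u) = 1 := by
      obtain ⟨a, ha⟩ := QuotientGroup.mk_surjective (N u)
      rw [← ha]
      show ω ⁅(a : Γ), g⁆ = 1
      have hfa : φ (a : Q ⧸ Rq) = a := by
        rw [ha, map_prod]
        refine Eq.trans (Finset.prod_congr rfl fun i _ => ?_) (hNφ u)
        exact (Function.iterate_succ_apply' φ i u).symm.trans (Function.iterate_succ_apply φ i u)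
      obtain ⟨w, hw⟩ := (hQ1mem ⟨g, hgQ⟩).mp hg
      obtain ⟨e, rfl⟩ := QuotientGroup.mk_surjective w
      -- `ω ⁅a, -⁆` is invariant under `c`
      let γ : Q →* K :=
        { toFun := fun t => ω ⁅(a : Γ), (t : Γ)⁆
          map_one' := by rw [Subgroup.coe_one, commutatorElement_one_right, (ch_mul ρ hW).1]
          map_mul' := fun s t => by
            rw [Subgroup.coe_mul, comm_mul S a.2 s.2 t.2, (ch_mul ρ hW).2 _ (S.comm _ s.2 _ a.2) _
              (S.comm _ t.2 _ a.2)] }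
      have hγR : Rq ≤ γ.ker := fun r hr => MonoidHom.mem_ker.mpr ((mem_rad.mp (show (r : Γ) ∈ R from hr)).2 _ a.2)
      let γb : Q ⧸ Rq →* K := QuotientGroup.lift Rq γ hγR
      show γb ((⟨g, hgQ⟩ : Q) : Q ⧸ Rq) = 1
      rw [← hw, hf, div_eq_inv_mul, map_mul, hφ]
      have hinv : γb (cQ e : Q) = γb (e : Q ⧸ Rq) := by
        show ω ⁅(a : Γ), c * (e : Γ) * c⁻¹⁆ = ω ⁅(a : Γ), (e : Γ)⁆
        have hd : (cQ a)⁻¹ * a ∈ Rq := by
          rw [hφ] at hfa; exact QuotientGroup.eq.mp hfa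
        have hr : (⁅((cQ a)⁻¹ * a : Q), cQ e⁆ : Q) = (⁅((cQ a)⁻¹ * a : Q), cQ e⁆ : Q) := rfl
        have h5 := (mem_rad.mp (show (((cQ a)⁻¹ * a : Q) : Γ) ∈ R from hd)).2 _ (cQ e).2
        set d : Γ := (((cQ a)⁻¹ * a : Q) : Γ) with hdd
        have hdQ : d ∈ Q := ((cQ a)⁻¹ * a).2
        have h6 := ch_inv ρ hW (S.comm d hdQ _ (cQ e).2)
        rw [commutatorElement_inv, h5, one_mul] at h6
        have e1 : (a : Γ) = (cQ a : Γ) * d := by rw [hdd]; simp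
        have hz := S.central _ (S.comm (cQ e : Γ) (cQ e).2 d hdQ) (cQ a : Γ) (cQ a).2
        calc ω ⁅(a : Γ), c * (e : Γ) * c⁻¹⁆
            = ω ((cQ a : Γ) * ⁅d, (cQ e : Γ)⁆ * (cQ a : Γ)⁻¹ * ⁅(cQ a : Γ), (cQ e : Γ)⁆) := by
              rw [e1]; congr 1
              show ⁅(cQ a : Γ) * d, (cQ e : Γ)⁆ = _
              simp only [commutatorElement_def]; group
          _ = ω ⁅(cQ a : Γ), (cQ e : Γ)⁆ := by
              rw [hz, mul_inv_cancel_right, (ch_mul ρ hW).2 _ (S.comm _ (cQ e).2 _ hdQ) _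
                (S.comm _ (cQ e).2 _ (cQ a).2), h6, one_mul]
          _ = _ := by
              show ω ⁅c * (a : Γ) * c⁻¹, c * (e : Γ) * c⁻¹⁆ = _
              rw [show ⁅c * (a : Γ) * c⁻¹, c * (e : Γ) * c⁻¹⁆ = c * ⁅(a : Γ), (e : Γ)⁆ * c⁻¹ by
                simp only [commutatorElement_def]; group]
              exact hcS.2.2 _ (S.comm _ e.2 _ a.2)
      rw [hinv, ← map_mul, inv_mul_cancel, map_one]
    have h3 : βb u ^ p = 1 := by
      have : βb (N u) = βb u ^ p := by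
        show βb (∏ i ∈ Finset.range p, φ^[i] u) = _
        simp [map_prod, h1]
      rw [← this, h2]
    have h4 : (βb u - 1) ^ p = 0 := by rw [sub_pow_char, h3, one_pow, sub_self]
    exact sub_eq_zero.mp (eq_zero_of_pow_eq_zero h4)
  -- the counting theorem
  set h := p ^ (m - j + 1) with hh
  have hh2 : 2 ≤ h := le_trans hp.out.two_le (Nat.le_self_pow (by omega) p)
  have hpm : p ^ j * h = p ^ (m + 1) := by
    rw [hh, ← pow_add, show j + (m - j + 1) = m + 1 by omega]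
  have hQ1S : Q1 ≤ Γω := hQ1Q.trans hQS
  have hx'Q1 : ∀ g ∈ Q1, x' * g * x'⁻¹ ∈ Q1 := by
    intro g hg
    obtain ⟨w, hw⟩ := (hQ1mem ⟨g, hQ1Q hg⟩).mp hg
    obtain ⟨e, rfl⟩ := QuotientGroup.mk_surjective w
    rw [hf, hφ, div_eq_inv_mul, ← QuotientGroup.mk_inv, ← QuotientGroup.mk_mul, QuotientGroup.eq] at hw
    have h1 : x' * (((e⁻¹ * cQ e)⁻¹ * ⟨g, hQ1Q hg⟩ : Q) : Γ) * x'⁻¹ ∈ R := hconjR _ hx'S _ hw
    have he' : x' * (e : Γ) * x'⁻¹ ∈ Q := (Subgroup.mem_normalizer_iff.mp hx'S.1 _).mp e.2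
    have h2 := hQ1c _ he'
    have hxc : Commute x' c := by rw [hx'def, hcdef]; exact Commute.pow_pow_self x _ _
    have e2 : (x' * (e : Γ) * x'⁻¹)⁻¹ * (c * (x' * (e : Γ) * x'⁻¹) * c⁻¹) =
        x' * ((e⁻¹ * cQ e : Q) : Γ) * x'⁻¹ := by
      show _ = x' * ((e : Γ)⁻¹ * (c * (e : Γ) * c⁻¹)) * x'⁻¹
      have h3 := hxc.eq
      have h4 := hxc.inv_left.inv_right.eq
      calc _ = x' * (e : Γ)⁻¹ * x'⁻¹ * ((c * x') * (e : Γ) * (x'⁻¹ * c⁻¹)) := by group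
        _ = x' * (e : Γ)⁻¹ * x'⁻¹ * ((x' * c) * (e : Γ) * (c⁻¹ * x'⁻¹)) := by rw [h3, h4]
        _ = _ := by group
    rw [e2] at h2
    have h3 := Q1.mul_mem h2 (hRQ1 h1)
    convert h3 using 1
    simp [mul_assoc]
  have hZR : Z ≤ R := fun z hz => mem_rad.mpr ⟨S.le hz, fun t ht => by
    rw [commutatorElement_eq_one_iff_mul_comm.mpr (S.central z hz t ht)]; exact (ch_mul ρ hW).1⟩
  -- characters of the radical
  set R' := R.subgroupOf Γω
  set Q1' := Q1.subgroupOf Γω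
  set X : Γω := ⟨x', hx'S⟩
  have htop : ⨆ χ : Γω → K, chEigen ρW R' χ = ⊤ := by
    refine iSup_chEigen_eq_top ρW R' (fun a ha b hb => ?_) ?_
    · refine LinearMap.ext fun v => Subtype.ext ?_
      rw [Module.End.mul_apply, Module.End.mul_apply, coe_restr, coe_restr, coe_restr, coe_restr]
      have hb : (b : Γ) ∈ R := hb
      have ha : (a : Γ) ∈ R := ha
      have hc' : ⁅(a : Γ), (b : Γ)⁆ ∈ Z := S.comm _ (hRQ hb) _ (hRQ ha)
      have h2 : ρ ((a : Γ) * b) = ρ ⁅(a : Γ), (b : Γ)⁆ * ρ ((b : Γ) * a) := by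
        rw [← map_mul]; congr 1; simp only [commutatorElement_def]; group
      rw [← Module.End.mul_apply, ← map_mul, h2, Module.End.mul_apply,
        (mem_chEigen ρ).mp (apply_mem_chEigen ρ (hQS (Q.mul_mem (hRQ hb) (hRQ ha))).2.1
          (hQS (Q.mul_mem (hRQ hb) (hRQ ha))).2.2 v.2) _ hc',
        (mem_rad.mp hb).2 _ (hRQ ha), one_smul, map_mul, Module.End.mul_apply]
    · refine hpK _ fun hd => S.coprime ?_
      rw [Nat.card_congr (Subgroup.subgroupOfEquivOfLe (hRQ.trans hQS)).toEquiv] at hd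
      exact hd.trans (Subgroup.card_dvd_of_le hRQ)
  obtain ⟨χ, hχ⟩ : ∃ χ : Γω → K, chEigen ρW R' χ ≠ ⊥ := by
    by_contra hcon
    push Not at hcon
    exact bot_ne_top (α := Submodule K W) (by rw [← htop]; simp [hcon])
  have hXn : X ∈ Subgroup.normalizer (R' : Set Γω) := by
    refine Subgroup.mem_normalizer_iff.mpr fun a => ⟨fun ha => hconjR _ hx'S _ ha, fun ha => ?_⟩
    have := hconjR _ (inv_mem hx'S) _ (show x' * (a : Γ) * x'⁻¹ ∈ R from ha)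
    show (a : Γ) ∈ R
    simpa [mul_assoc] using this
  have hXh : X ^ p ^ (m - j + 1) = 1 := Subtype.ext (by
    show x' ^ p ^ (m - j + 1) = 1
    rw [hx'def, ← pow_mul, ← pow_add, show j + (m - j + 1) = m + 1 by omega, hx])
  obtain ⟨i, him, hi, hiker⟩ := orbit_bound ρW R' hXn hXh hχ (s := h - 1) (hnil _ (by
    rw [Nat.mul_sub_one, hpm]
    have : p ^ j ≤ p ^ (m + 1) := Nat.pow_le_pow_right hp.out.pos (by omega)
    have := pow_pos hp.out.pos j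
    omega)) le_rfl
  set k := m - j - i + 1 with hk
  have hji : m + 1 - k = j + i := by omega
  have hkm : k ≤ m + 1 := by omega
  have hk0 : k ≠ 0 := by omega
  have hpk : p ^ i * p ^ k = h := by rw [hh, ← pow_add]; congr 1; omega
  -- `χ` extends `ω`
  obtain ⟨u0, hu0, hu01⟩ := (Submodule.ne_bot_iff _).mp hχ
  have hχZ : ∀ z : Γω, (z : Γ) ∈ Z → χ z = ω (z : Γ) := fun z hz => by
    have h1 := congrArg Subtype.val ((mem_chEigen ρW).mp hu0 z (hZR hz))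
    rw [coe_restr, (mem_chEigen ρ).mp u0.2 _ hz] at h1
    exact (smul_left_injective K (fun e => hu01 (Subtype.ext e) : (u0 : V) ≠ 0) h1).symm
  have hQ1'S : Q1' ≤ stab Q1' R' χ := by
    intro g hg
    have hgR : ∀ r ∈ R', g * r * g⁻¹ ∈ R' := fun r hr => hconjR _ (hQS (hQ1Q hg)) _ hr
    refine mem_stab.mpr ⟨Subgroup.le_normalizer hg, Subgroup.mem_normalizer_iff.mpr fun r => ⟨hgR r, fun hr => ?_⟩, fun r hr => ?_⟩
    · have := hconjR _ (hQS (Q.inv_mem (hQ1Q hg))) _ (show (g : Γ) * r * (g : Γ)⁻¹ ∈ R from hr)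
      show (r : Γ) ∈ R
      simpa [mul_assoc] using this
    · have hr0 : (r : Γ) ∈ R := hr
      have hg0 : (g : Γ) ∈ Q1 := hg
      have hw1 : ω ⁅(g : Γ), (r : Γ)⁆ = 1 := (mem_rad.mp hr0).2 _ (hQ1Q hg0)
      have hz : (⁅g, r⁆ : Γω).1 ∈ Z := S.comm _ (hRQ hr) _ (hQ1Q hg)
      rw [show g * r * g⁻¹ = ⁅g, r⁆ * r by simp only [commutatorElement_def]; group,
        (ch_mul ρW hχ).2 _ (show ⁅g, r⁆ ∈ R' from hZR hz) _ hr, hχZ _ hz,
        show ((⁅g, r⁆ : Γω) : Γ) = ⁅(g : Γ), (r : Γ)⁆ from rfl, hw1, one_mul]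
  have hXQ1 : X ∈ Subgroup.normalizer (Q1' : Set Γω) := by
    have hmap : Q1.map (MulAut.conj x').toMonoidHom = Q1 := by
      refine Subgroup.eq_of_le_of_card_ge ?_ (Subgroup.card_map_of_injective (MulAut.conj x').injective).ge
      rintro _ ⟨g, hg, rfl⟩
      exact hx'Q1 g hg
    refine Subgroup.mem_normalizer_iff.mpr fun g => ⟨fun hg => hx'Q1 _ hg, fun hg => ?_⟩
    have hg' : x' * (g : Γ) * x'⁻¹ ∈ Q1 := hg
    rw [← hmap] at hg'
    obtain ⟨g', hg'', e⟩ := hg'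
    rw [MulEquiv.coe_toMonoidHom, MulAut.conj_apply] at e
    show (g : Γ) ∈ Q1
    rwa [show (g : Γ) = g' by simpa using e.symm]
  set Γ2 := stab Q1' R' χ with hΓ2
  set ρ2 := restr (ρ := ρW) Q1' R' χ with hρ2
  set y : Γ2 := ⟨X ^ p ^ i, mem_stab.mpr ⟨Subgroup.pow_mem _ hXQ1 _, Subgroup.pow_mem _ hXn _, hi⟩⟩ with hy
  have hyh : y ^ p ^ k = 1 := Subtype.ext (by
    show (X ^ p ^ i) ^ p ^ k = 1
    rw [← pow_mul, hpk, hh, hXh])
  haveI : Nontrivial ↥(chEigen ρW R' χ) := Submodule.nontrivial_iff_ne_bot.mpr hχ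
  have hnorm2 : ∀ (A : Subgroup Γω), X ∈ Subgroup.normalizer (A : Set Γω) →
      y ∈ Subgroup.normalizer ((A.subgroupOf Γ2 : Subgroup Γ2) : Set Γ2) := fun A hA =>
    Subgroup.mem_normalizer_iff.mpr fun g =>
      Subgroup.mem_normalizer_iff.mp (Subgroup.pow_mem _ hA (p ^ i)) (g : Γω)
  have hρ2sub : ∀ (n : ℕ) (v : ↥(chEigen ρW R' χ)),
      ((((ρ2 y - 1) ^ n) v : ↥(chEigen ρW R' χ)) : W) = ((ρW (X ^ p ^ i) - 1) ^ n) v := by
    intro n
    induction n with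
    | zero => intro v; rfl
    | succ n ih =>
      intro v
      rw [pow_succ, Module.End.mul_apply, pow_succ, Module.End.mul_apply, ih]
      congr 1
  have hnil2 : ∀ s' r, (ρW X - 1) ^ s' = 0 → s' ≤ p ^ i * r + (p ^ i - 1) → (ρ2 y - 1) ^ r = 0 :=
    fun s' r hs' hr => LinearMap.ext fun v => Subtype.ext (by
      rw [hρ2sub]; exact hiker s' r hs' hr v v.2)
  have hfree2 : ∀ t, 0 < t → t < p ^ k → ∀ g ∈ Q1'.subgroupOf Γ2,
      g⁻¹ * (y ^ t * g * (y ^ t)⁻¹) ∈ R'.subgroupOf Γ2 → g ∈ R'.subgroupOf Γ2 := by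
    intro t ht htk g hg hgt
    refine hfpf _ hg ?_
    -- `c` is a power of `y ^ t`
    set z : Γ := ((((y ^ t : Γ2)) : Γω) : Γ) with hz
    obtain ⟨a, u, hu, e⟩ := Nat.exists_eq_pow_mul_and_not_dvd ht.ne' p hp.out.ne_one
    have hak : a < k := by
      by_contra hak
      have h1 : p ^ k ≤ p ^ a := Nat.pow_le_pow_right hp.out.pos (not_lt.mp hak)
      have h2 : p ^ a ≤ p ^ a * u := Nat.le_mul_of_pos_right _ (Nat.pos_of_ne_zero fun e0 => hu (e0 ▸ dvd_zero p))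
      omega
    have hz1 : z = (x' ^ (p ^ i * p ^ a)) ^ u := by
      rw [hz, e]
      simp [hy, X, ← pow_mul, mul_assoc]
    have hord : orderOf (x' ^ (p ^ i * p ^ a)) ∣ p ^ k := by
      refine orderOf_dvd_of_pow_eq_one ?_
      rw [← pow_mul, show p ^ i * p ^ a * p ^ k = h * p ^ a by rw [← hpk]; ring, pow_mul,
        show x' ^ h = 1 from congrArg Subtype.val hXh, one_pow]
    obtain ⟨n, hn⟩ : ∃ n : ℕ, z ^ n = x' ^ (p ^ i * p ^ a) := by
      rw [hz1]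
      exact exists_pow_eq_self_of_coprime ((((hp.out.coprime_iff_not_dvd.mpr hu).symm.pow_right k)).coprime_dvd_right hord)
    have hc : c = z ^ (n * p ^ (k - 1 - a)) := by
      rw [pow_mul, hn, ← pow_mul, hcx']
      congr 1
      rw [← pow_add, ← pow_add]; congr 1; omega
    have hzS : z ∈ Γω := ((y ^ t : Γ2) : Γω).2
    have hpow : ∀ N : ℕ, (g : Γω).1⁻¹ * (z ^ N * (g : Γω).1 * (z ^ N)⁻¹) ∈ R := by
      intro N
      induction N with
      | zero => simp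
      | succ N ih =>
        have h1 : (g : Γω).1⁻¹ * (z * (g : Γω).1 * z⁻¹) ∈ R := hgt
        have h2 := R.mul_mem h1 (hconjR _ hzS _ ih)
        rw [pow_succ']
        convert h2 using 1
        group
    rw [hc]
    exact hpow _
  have hcount : ∀ r, (ρ2 y - 1) ^ r = 0 → ∃ d : ℕ, d * d = R.relIndex Q1 ∧ p ^ k ∣ d * d - 1 ∧
      d * d * p ^ k ≤ r * (p ^ k + (d * d - 1)) ∧
      ∀ k', p ^ k = 2 ^ (k' + 1) → CharP K 2 → d ≤ 1 ∨ 2 * (2 ^ k' * 2 ^ k') ≤ d * d + 1 := by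
    intro r hr
    obtain ⟨d, hd, h1, h2⟩ := hallHigman_modular_two ρ2 (Q1'.subgroupOf Γ2) (R'.subgroupOf Γ2) y
      (h := p ^ k) (le_trans hp.out.two_le (Nat.le_self_pow (by omega) p)) hyh (hnorm2 _ hXQ1) (hnorm2 _ hXn)
      (fun g hg t ht => hZR (S.comm _ (hQ1Q hg) _ (hQ1Q ht))) (fun g => χ (g : Γω))
      (fun r hr => LinearMap.ext fun v => Subtype.ext ((mem_chEigen ρW).mp v.2 _ hr))
      (fun r hr => hi _ hr)
      (fun g hg hgR => by
        obtain ⟨t, ht, hne⟩ := hnd _ hg hgR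
        refine ⟨⟨⟨t, hQ1S ht⟩, hQ1'S ht⟩, ht, ?_⟩
        rw [hχZ _ (S.comm _ (hQ1Q hg) _ (hQ1Q ht))]
        exact hne)
      (fun g hg => hRQ1 hg) hfree2 hr
    refine ⟨d, ?_, h1, h2⟩
    rw [hd, Subgroup.relIndex_subgroupOf hQ1'S, Subgroup.relIndex_subgroupOf hQ1S]
  have hpi := pow_pos hp.out.pos i
  obtain ⟨d, hd, hdvd, hineq, hhalf⟩ := hcount (p ^ k - 1) (hnil2 (h - 1) _ (hnil _ (by
    rw [Nat.mul_sub_one, hpm]
    have : p ^ j ≤ p ^ (m + 1) := Nat.pow_le_pow_right hp.out.pos (by omega)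
    omega)) (by
    rw [Nat.mul_sub_one, hpk]
    have : p ^ i ≤ h := hpk ▸ Nat.le_mul_of_pos_right _ (pow_pos hp.out.pos k)
    omega))
  have hd1 : 1 < d := by
    rcases Nat.lt_or_ge 1 d with hlt | hle
    · exact hlt
    exfalso
    interval_cases d
    · exact absurd hd.symm (Subgroup.index_ne_zero_of_finite (H := R.subgroupOf Q1))
    · exact hQ1R (le_antisymm (Subgroup.relIndex_eq_one.mp (by rw [← hd])) hRQ1)
  obtain ⟨hde, hmin⟩ : d + 1 = p ^ k ∧ ∀ r, d * d * p ^ k ≤ r * (p ^ k + (d * d - 1)) → p ^ k - 1 ≤ r :=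
    arith_all hp.out (by omega) hd1 hdvd hineq (fun e => by
      subst e
      exact (hhalf (k - 1) (by rw [show k - 1 + 1 = k by omega]) inferInstance).resolve_left (by omega))
  obtain ⟨b, hqd⟩ : ∃ b, d = q ^ b := by
    obtain ⟨e, he⟩ := IsPGroup.iff_card.mp (hQ.to_le hQ1Q)
    have h1 : d ∣ q ^ e := he ▸ (Dvd.intro _ hd).trans (Subgroup.relIndex_dvd_card R Q1)
    obtain ⟨b, -, hb⟩ := (Nat.dvd_prime_pow hq.out).mp h1
    exact ⟨b, hb⟩
  have hb0 : b ≠ 0 := fun e => by rw [e, pow_zero] at hqd; omega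
  refine ⟨k, b, by omega, hkm, hb0, by rw [← hqd, hde], ?_, Q1, hRQ1, hQ1Q, hQ1c, by rw [← hd, hqd]⟩
  rw [hji, pow_add, pow_mul]
  exact Subgroup.pow_mem _ hx'S _

/-- For `p = 2` the exceptional element moves a plane. -/
theorem section_dichotomy_two [IsAlgClosed K] [FiniteDimensional K V] {q : ℕ}
    [hq : Fact q.Prime] [CharP K 2] {Q Z : Subgroup Γ} (S : Setting 2 Q Z)
    (hQ : IsPGroup q Q) {x : Γ} (hxQ : x ∈ Subgroup.normalizer (Q : Set Γ))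
    (hxZ : x ∈ Subgroup.normalizer (Z : Set Γ)) {m : ℕ} (hx : x ^ 2 ^ (m + 1) = 1) {s : ℕ}
    (hs : (ρ x - 1) ^ s = 0) (hsm : s ≤ 2 ^ (m + 1) - 1) {ω : Γ → K} (hW : chEigen ρ Z ω ≠ ⊥) :
    x ^ 2 ^ m ∈ stab Q Z ω ∧
    ((∀ g ∈ Q, g⁻¹ * (x ^ 2 ^ m * g * (x ^ 2 ^ m)⁻¹) ∈ rad S hW) ∨
      ((∃ k, 2 ≤ k ∧ q + 1 = 2 ^ k) ∧ x ^ 2 ^ (m - 1) ∈ stab Q Z ω ∧
        ∃ Q1 : Subgroup Γ, rad S hW ≤ Q1 ∧ Q1 ≤ Q ∧
          (∀ g ∈ Q, g⁻¹ * (x ^ 2 ^ m * g * (x ^ 2 ^ m)⁻¹) ∈ Q1) ∧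
          (rad S hW).relIndex Q1 = q * q)) := by
  haveI : Fact (Nat.Prime 2) := ⟨Nat.prime_two⟩
  obtain ⟨h1, -, h2⟩ := section_dichotomy_full (p := 2) S hQ hxQ hxZ hx hs hsm hW
  refine ⟨h1, h2.imp_right ?_⟩
  rintro ⟨k, b, hk0, hkm, hb, hpk, hxk, Q1, hR1, hQ1, hc, hcard⟩
  rcases Cfsg.Agent.S3784.result 2 q k b Nat.prime_two hq.out (Nat.one_le_iff_ne_zero.mpr hk0)
    (Nat.one_le_iff_ne_zero.mpr hb) hpk with ⟨-, rfl, hkp, hqk⟩ | ⟨-, -, -, h⟩ | ⟨h, -⟩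
  · refine ⟨⟨k, hkp.two_le, hqk⟩, ?_, Q1, hR1, hQ1, hc, by rwa [pow_one] at hcard⟩
    rw [show m - 1 = (m + 1 - k) + (k - 2) by have := hkp.two_le; omega, pow_add, pow_mul]
    exact Subgroup.pow_mem _ hxk _
  · have : 2 ≤ 2 ^ b := Nat.le_self_pow hb 2
    omega
  · exfalso
    have h2 : 2 ∣ 9 := h ▸ dvd_pow_self 2 hk0
    omega

end Cfsg.Agent.Grp.Gross
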