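import Mathlib
import Cfsg.Agent.Lib.Grp.GrossTwo.Planar
import Cfsg.Agent.Lib.Grp.GrossTwo.Dichotomy
import Cfsg.Agent.Lib.Invol.Critical

/-!
A local `2`-subgroup generated in a suitable way centralizes the normalized odd Sylow subgroups.
-/

set_option autoImplicit false
set_option linter.style.haveILetI false
set_option linter.unusedSectionVars false

namespace Cfsg.Agent.Grp.Gross

open Module Subgroup Cfsg.Agent.Grp.HHExc
open scoped commutatorElement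

universe u

/-- A normalized `2`-group `T` with the central subgroup `Φ`, a subgroup `J` acting on it, an element
`y` with square `c`, and the two possible ways in which the centralizer of `c` is controlled. -/
structure Local {Γ : Type*} [Group Γ] (T Φ J : Subgroup Γ) (c y : Γ) : Prop where
  twoT : IsPGroup 2 T
  hy : c = y * y
  hc : c * c = 1
  norm : y ∈ normalizer (T : Set Γ)
  le : Φ ≤ T
  central : ∀ f ∈ Φ, ∀ t ∈ T, f * t = t * f
  sq : ∀ f ∈ Φ, f * f = 1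
  cJ : c ∈ J
  TJ : T ≤ J
  JT : J ≤ normalizer (T : Set Γ)
  gen : ∀ N : Subgroup Γ, c ∈ N → (∀ g ∈ J, ∀ x ∈ N, g * x * g⁻¹ ∈ N) → T ≤ N
  small : ∀ U : Subgroup Γ, U ≤ T → (∀ g ∈ J, ∀ x ∈ U, g * x * g⁻¹ ∈ U) →
    (∀ x ∈ U, y * x * y⁻¹ ∈ U) → T ≤ U ∨ U ≤ Φ
  nonfix : ¬ ∀ b ∈ T, ⁅b, c⁆ ∈ Φ
  control : (∀ b ∈ T, ⁅b, c⁆ ∈ Φ → ∃ w ∈ T, b⁻¹ * ⁅w, c⁆ ∈ Φ) ∨
    ∃ z ∈ J, ∃ N : ℕ, Odd N ∧ z ^ N = 1 ∧ z * y = y * z ∧
      ∀ b ∈ T, ⁅b, c⁆ ∈ Φ → ∃ l : List ℕ, b⁻¹ * (l.map fun i => ⁅z ^ i, b⁆).prod ∈ Φ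

variable {K : Type*} [Field K] {V : Type*} [AddCommGroup V] [Module K V]

/-- On a single eigenspace section the local `2`-group acts trivially. -/
theorem section_trivial {Γ : Type u} [Group Γ] [Finite Γ] [IsAlgClosed K] [FiniteDimensional K V] [CharP K 2]
    {ρ : Γ →* Module.End K V} {r : ℕ} [hr : Fact r.Prime] (hr2 : r ≠ 2) {Y Z : Subgroup Γ} [Y.Normal] [Z.Normal]
    (S : Setting 2 Y Z) (hY : IsPGroup r Y) (hYr : ∀ u ∈ Y, u ^ r ∈ Z) {n : ℕ} (hn : 1 ≤ n)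
    (hdef : ∀ x : Γ, IsPGroup 2 (zpowers x) →
      x ^ 2 ^ (n + 1) = 1 ∧ (ρ x - 1) ^ (2 ^ (n + 1) - 1) = 0)
    {h : Γ} (hh : IsPGroup 2 (zpowers h)) {T Φ J : Subgroup Γ}
    (hJ : J ≤ closure {g | ∃ x : Γ, IsPGroup 2 (zpowers x) ∧ g = x ^ 2 ^ n})
    (hL : Local T Φ J (h ^ 2 ^ n) (h ^ 2 ^ (n - 1))) {ω : Γ → K} (hW : chEigen ρ Z ω ≠ ⊥) :
    (∀ g ∈ J, g ∈ stab Y Z ω) ∧ ∀ t ∈ T, ∀ u ∈ Y, u⁻¹ * (t * u * t⁻¹) ∈ rad S hW := by
  classical
  have hnY : ∀ g : Γ, g ∈ normalizer (Y : Set Γ) := fun g => by rw [normalizer_eq_top]; exact mem_top g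
  have hnZ : ∀ g : Γ, g ∈ normalizer (Z : Set Γ) := fun g => by rw [normalizer_eq_top]; exact mem_top g
  have hd : ∀ x : Γ, IsPGroup 2 (zpowers x) → _ := fun x hx =>
    section_dichotomy_two (q := r) S hY (hnY x) (hnZ x) (hdef x hx).1 (hdef x hx).2 le_rfl hW
  have hJs : J ≤ stab Y Z ω := hJ.trans ((closure_le _).mpr (by rintro g ⟨x, hx, rfl⟩; exact (hd x hx).1))
  refine ⟨hJs, ?_⟩
  set c := h ^ 2 ^ n with hc
  set y := h ^ 2 ^ (n - 1) with hy
  set R := rad S hW with hR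
  have hRY : R ≤ Y := fun a ha => (mem_rad.mp ha).1
  have hZR : ∀ z ∈ Z, z ∈ R := fun z hz => mem_rad.mpr ⟨S.le hz, fun t ht => by
    rw [commutatorElement_eq_one_iff_mul_comm.mpr (S.central z hz t ht)]; exact (ch_mul ρ hW).1⟩
  obtain ⟨S', _, _, f, σ, hfs, hfk, hσ⟩ := Cfsg.Agent.Grp.HHP.exists_section_action (stab Y Z ω) Y R hRY
    (fun a ha d hd' => hZR _ (S.comm d hd' a ha)) (fun d _ => hnY d) (fun d hd a ha => conj_mem_rad hd ha)
  -- the trivially acting elements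
  set Kσ := (σ.ker).map (stab Y Z ω).subtype with hKσ
  have hKn : ∀ g ∈ stab Y Z ω, ∀ x ∈ Kσ, g * x * g⁻¹ ∈ Kσ := by
    rintro g hg _ ⟨x, hx, rfl⟩
    exact ⟨⟨g, hg⟩ * x * (⟨g, hg⟩ : stab Y Z ω)⁻¹, (MonoidHom.normal_ker σ).conj_mem x hx _, rfl⟩
  have hKmem : ∀ (d : stab Y Z ω), σ d = 1 → (d : Γ) ∈ Kσ := fun d hd => ⟨d, hd, rfl⟩
  suffices hTK : T ≤ Kσ by
    intro t ht u hu
    obtain ⟨d, hd', rfl⟩ := hTK ht
    have hu' : (d : Γ) * u * (d : Γ)⁻¹ ∈ Y := (mem_normalizer_iff.mp (hnY d) u).mp hu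
    have h1 := hσ d ⟨u, hu⟩ ⟨_, hu'⟩ rfl
    rw [MonoidHom.mem_ker.mp hd', MulAut.one_apply] at h1
    have h2 : (⟨u, hu⟩ : Y)⁻¹ * ⟨_, hu'⟩ ∈ f.ker := by
      rw [MonoidHom.mem_ker, map_mul, map_inv, h1, inv_mul_cancel]
    rw [hfk] at h2
    exact h2
  obtain ⟨hcs, hdich⟩ := hd h hh
  rcases hdich with htriv | ⟨⟨k, hk, hrk⟩, hys, Q1, -, hQ1Y, hQ1, hQ1c⟩
  · -- `c` acts trivially
    refine hL.gen Kσ (hKmem ⟨c, hcs⟩ (MulEquiv.ext fun s => ?_)) (fun g hg => hKn g (hJs hg))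
    obtain ⟨a, rfl⟩ := hfs s
    have ha' : c * (a : Γ) * c⁻¹ ∈ Y := (mem_normalizer_iff.mp (hnY c) a).mp a.2
    rw [hσ ⟨c, hcs⟩ a ⟨_, ha'⟩ rfl, MulAut.one_apply, eq_comm, ← inv_mul_eq_one, ← map_inv, ← map_mul,
      ← MonoidHom.mem_ker, hfk]
    exact htriv a a.2
  -- the exceptional case
  have hYcard : ¬ 2 ∣ Nat.card Y := S.coprime
  have hrodd : Odd r := hr.out.odd_of_ne_two hr2
  have hω1 := ch_mul ρ hW
  have hmulR : ∀ a b e : Y, ω ⁅(a : Γ), ((b * e : Y) : Γ)⁆ = ω ⁅(a : Γ), (b : Γ)⁆ * ω ⁅(a : Γ), (e : Γ)⁆ := by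
    intro a b e
    rw [Subgroup.coe_mul, comm_mul S a.2 b.2 e.2, hω1.2 _ (S.comm _ b.2 _ a.2) _ (S.comm _ e.2 _ a.2)]
  have hrad : ∀ a b : Y, f a = f b → ∀ e : Y, ω ⁅(e : Γ), (a : Γ)⁆ = ω ⁅(e : Γ), (b : Γ)⁆ := by
    intro a b hab e
    have hm : a⁻¹ * b ∈ f.ker := by rw [MonoidHom.mem_ker, map_mul, map_inv, hab, inv_mul_cancel]
    rw [hfk] at hm
    have := hmulR e a (a⁻¹ * b)
    rw [mul_inv_cancel_left, (mem_rad.mp (show ((a⁻¹ * b : Y) : Γ) ∈ R from hm)).2 e e.2, mul_one] at this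
    exact this.symm
  have hswap : ∀ a b : Y, ω ⁅(a : Γ), (b : Γ)⁆ * ω ⁅(b : Γ), (a : Γ)⁆ = 1 := fun a b => by
    have := ch_inv ρ hW (S.comm (b : Γ) b.2 a a.2)
    rwa [commutatorElement_inv] at this
  have hradL : ∀ a b : Y, f a = f b → ∀ e : Y, ω ⁅(a : Γ), (e : Γ)⁆ = ω ⁅(b : Γ), (e : Γ)⁆ := by
    intro a b hab e
    have h1 := hswap a e
    rw [hrad a b hab e] at h1
    have h2 := hswap b e
    exact mul_right_cancel₀ (right_ne_zero_of_mul_eq_one h2) (h1.trans h2.symm)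
  choose lift hlift using hfs
  set β : S' → S' → K := fun s s' => ω ⁅(lift s : Γ), (lift s' : Γ)⁆ with hβ
  have hβf : ∀ a b : Y, β (f a) (f b) = ω ⁅(a : Γ), (b : Γ)⁆ := fun a b => by
    rw [hβ]
    exact (hradL _ a (hlift _) _).trans (hrad _ b (hlift _) _)
  have hF : Form r β := by
    refine ⟨fun s => ?_, fun a b e => ?_, fun a b e => ?_, fun a => ?_, fun a ha => ?_⟩
    · rw [← hlift s, ← map_pow, ← MonoidHom.mem_ker, hfk]
      exact hZR _ (hYr _ (lift s).2)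
    · rw [← hlift a, ← hlift b, ← hlift e, ← map_mul, hβf, hβf, hβf]
      have h1 := hswap (lift a * lift b) (lift e)
      rw [hmulR] at h1
      have h2 := hswap (lift a) (lift e)
      have h3 := hswap (lift b) (lift e)
      have h4 : (ω ⁅(lift a : Γ), (lift e : Γ)⁆ * ω ⁅(lift b : Γ), (lift e : Γ)⁆) *
          (ω ⁅(lift e : Γ), (lift a : Γ)⁆ * ω ⁅(lift e : Γ), (lift b : Γ)⁆) = 1 := by
        rw [mul_mul_mul_comm, h2, h3, mul_one]
      exact mul_right_cancel₀ (right_ne_zero_of_mul_eq_one h4) (h1.trans h4.symm)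
    · rw [← hlift a, ← hlift b, ← hlift e, ← map_mul, hβf, hβf, hβf]
      exact hmulR _ _ _
    · rw [← hlift a, hβf, commutatorElement_self]
      exact hω1.1
    · by_contra hall
      push Not at hall
      refine ha ?_
      rw [← hlift a, ← MonoidHom.mem_ker, hfk]
      show ((lift a : Y) : Γ) ∈ rad S hW
      refine mem_rad.mpr ⟨(lift a).2, fun t ht => ?_⟩
      have h1 := hall (f ⟨t, ht⟩)
      rw [← hlift a, hβf] at h1
      have h2 := hswap ⟨t, ht⟩ (lift a)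
      rwa [h1, mul_one] at h2
  have hiso : ∀ d : stab Y Z ω, Isom β (σ d) := by
    intro d a b
    obtain ⟨a', rfl⟩ : ∃ a', f a' = a := ⟨_, hlift a⟩
    obtain ⟨b', rfl⟩ : ∃ b', f b' = b := ⟨_, hlift b⟩
    have ha : (d : Γ) * a' * (d : Γ)⁻¹ ∈ Y := (mem_normalizer_iff.mp (hnY d) a').mp a'.2
    have hb : (d : Γ) * b' * (d : Γ)⁻¹ ∈ Y := (mem_normalizer_iff.mp (hnY d) b').mp b'.2
    rw [hσ d a' ⟨_, ha⟩ rfl, hσ d b' ⟨_, hb⟩ rfl, hβf, hβf]
    rw [← d.2.2.2 _ (S.comm (b' : Γ) b'.2 a' a'.2)]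
    congr 1
    simp only [commutatorElement_def]; group
  -- the `2`-group
  set P := T ⊔ zpowers y with hP
  have hPp : IsPGroup 2 P := hL.twoT.to_sup_of_normal_left' (hh.to_le (zpowers_le.mpr
    (Subgroup.pow_mem _ (mem_zpowers h) _))) (zpowers_le.mpr hL.norm)
  have hPs : P ≤ stab Y Z ω := sup_le (hL.TJ.trans hJs) (zpowers_le.mpr hys)
  let σP : P →* MulAut S' := σ.comp (Subgroup.inclusion hPs)
  have hyP : y ∈ P := mem_sup_right (mem_zpowers y)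
  set y' : P := ⟨y, hyP⟩
  have hσc : ∀ hcP : c ∈ stab Y Z ω, σP (y' * y') = σ ⟨c, hcP⟩ := fun hcP => by
    show σ _ = σ _
    exact congrArg σ (Subtype.ext hL.hy.symm)
  have hroot : Root r σP y' := by
    refine ⟨?_, ?_⟩
    · rw [hσc hcs, ← map_mul, show (⟨c, hcs⟩ * ⟨c, hcs⟩ : stab Y Z ω) = 1 from Subtype.ext hL.hc, map_one]
    · rw [hσc hcs]
      obtain ⟨m, hm⟩ := hrodd
      have hle : mov (σ ⟨c, hcs⟩) ≤ (Q1.subgroupOf Y).map f := by
        intro u hu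
        obtain ⟨a, ha⟩ : ∃ a, f a = (u⁻¹) ^ (m + 1) := ⟨_, hlift _⟩
        have ha' : c * (a : Γ) * c⁻¹ ∈ Y := (mem_normalizer_iff.mp (hnY c) a).mp a.2
        refine ⟨a⁻¹ * ⟨_, ha'⟩, hQ1 a a.2, ?_⟩
        rw [map_mul, map_inv, ← hσ ⟨c, hcs⟩ a ⟨_, ha'⟩ rfl, ha, map_pow, map_inv, mem_mov.mp hu, inv_inv,
          inv_pow, inv_inv, ← pow_add, show m + 1 + (m + 1) = r + 1 by omega, pow_succ, hF.exp, one_mul]
      refine (Nat.card_mono (Set.toFinite _) hle).trans (le_of_eq ?_)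
      show Nat.card ((Q1.subgroupOf Y).map f) = r * r
      rw [← relIndex_ker, hfk, relIndex_subgroupOf hQ1Y, hQ1c]
  have hisoP : ∀ d : P, Isom β (σP d) := fun d => hiso _
  have hcomm : ∀ g g' : P, Commute (σP (g * (y' * y') * g⁻¹)) (σP (g' * (y' * y') * g'⁻¹)) := fun g g' => by
    have := roots_commute hrodd hF hPp σP hisoP _ _ (hroot.conj g) (hroot.conj g')
    rwa [show g * y' * g⁻¹ * (g * y' * g⁻¹) = g * (y' * y') * g⁻¹ by group,
      show g' * y' * g'⁻¹ * (g' * y' * g'⁻¹) = g' * (y' * y') * g'⁻¹ by group] at this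
  have hcT : ∀ t ∈ T, ⁅t, c⁆ ∈ T := fun t ht => by
    have hcn : c ∈ normalizer (T : Set Γ) := hL.hy ▸ mul_mem hL.norm hL.norm
    rw [commutatorElement_def, mul_assoc t c, mul_assoc t]
    exact T.mul_mem ht ((mem_normalizer_iff.mp hcn _).mp (T.inv_mem ht))
  -- the kernel is small
  by_contra hTK
  have hKΦ : T ⊓ Kσ ≤ Φ := by
    refine (hL.small _ inf_le_left (fun g hg x hx => ⟨?_, hKn g (hJs hg) x hx.2⟩) fun x hx =>
      ⟨(mem_normalizer_iff.mp hL.norm x).mp hx.1, hKn y hys x hx.2⟩).resolve_left fun h => hTK (h.trans inf_le_right)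
    exact (mem_normalizer_iff.mp (hL.JT hg) x).mp hx.1
  have hkey : ∀ b : P, (b : Γ) ∈ T → Commute (σP b) (σP (y' * y')) → ⁅(b : Γ), c⁆ ∈ Φ := by
    intro b hb hbc
    refine hKΦ ⟨hcT _ hb, ?_⟩
    have hmem : σP ⁅b, y' * y'⁆ = 1 := by
      rw [map_commutatorElement, commutatorElement_eq_one_iff_commute]; exact hbc
    have := hKmem (Subgroup.inclusion hPs ⁅b, y' * y'⁆) hmem
    convert this using 1
    rw [hL.hy]; simp [commutatorElement_def, y', mul_assoc]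
  refine hL.nonfix fun b hb => hkey ⟨b, mem_sup_left hb⟩ hb ?_
  refine normalized_commute hrodd hF hPp σP hisoP (T.subgroupOf P) ?_ hroot ?_ ⟨b, mem_sup_left hb⟩ hb
  · refine mem_normalizer_iff.mpr fun x => ?_
    exact mem_normalizer_iff.mp hL.norm (x : Γ)
  -- squares of centralizing elements
  rintro ⟨b, hbP⟩ (hbT : b ∈ T) hbc u hu
  have hbΦ := hkey ⟨b, hbP⟩ hbT hbc
  rcases hL.control with hA | ⟨z, hzJ, N, hN, hzN, hzy, hB⟩
  · obtain ⟨w, hw, hwf⟩ := hA b hbT hbΦ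
    have hsq : (σP (⟨b, hbP⟩ * ⟨b, hbP⟩)) = 1 := by
      set w' : P := ⟨w, mem_sup_left hw⟩
      set c' := y' * y' with hc'
      have hd1 : σP (w' * c' * w'⁻¹ * c'⁻¹) * σP (w' * c' * w'⁻¹ * c'⁻¹) = 1 := by
        have hi1 : σP (w' * c' * w'⁻¹) * σP (w' * c' * w'⁻¹) = 1 := by
          have := (hroot.conj w').1
          rwa [show w' * y' * w'⁻¹ * (w' * y' * w'⁻¹) = w' * c' * w'⁻¹ by rw [hc']; group] at this
        have hi2 : σP c' * σP c' = 1 := hroot.1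
        have hcm : Commute (σP (w' * c' * w'⁻¹)) (σP c') := by
          have := hcomm w' 1
          rwa [inv_one, mul_one, one_mul] at this
        rw [map_mul σP _ c'⁻¹, map_inv σP c', ← sq, hcm.inv_right.mul_pow, sq, sq, hi1, one_mul, ← mul_inv_rev, hi2, inv_one]
      set f₀ := b⁻¹ * ⁅w, c⁆ with hf₀
      have hf₀P : f₀ ∈ P := mem_sup_left (hL.le hwf)
      have hbeq : (⟨b, hbP⟩ : P) = w' * c' * w'⁻¹ * c'⁻¹ * (⟨f₀, hf₀P⟩ : P)⁻¹ := by
        refine Subtype.ext ?_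
        simp only [hf₀, commutatorElement_def, hc', Subgroup.coe_mul, InvMemClass.coe_inv, w', y', hL.hy]
        group
      have hf2 : (⟨f₀, hf₀P⟩ : P) * ⟨f₀, hf₀P⟩ = 1 := Subtype.ext (hL.sq _ hwf)
      have hfc : Commute (⟨f₀, hf₀P⟩ : P)⁻¹ (w' * c' * w'⁻¹ * c'⁻¹) := by
        refine Commute.inv_left (Subtype.ext ?_)
        have hwc : ((w' * c' * w'⁻¹ * c'⁻¹ : P) : Γ) ∈ T := by
          have := hcT w hw
          simp only [commutatorElement_def, hL.hy] at this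
          simpa [hc', w', y', mul_assoc] using this
        exact hL.central _ hwf _ hwc
      rw [hbeq, ← sq, hfc.symm.mul_pow, inv_pow, map_mul, map_inv σP, sq, sq, hf2, map_one, inv_one, mul_one,
        map_mul, hd1]
    rw [hsq, MulAut.one_apply]
  · obtain ⟨l, hl⟩ := hB b hbT hbΦ
    set z' : stab Y Z ω := ⟨z, hJs hzJ⟩
    set ys : stab Y Z ω := ⟨y, hys⟩
    have hys2 : σP (y' * y') = σ ys * σ ys := by
      show σ _ = _
      rw [← map_mul]; rfl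
    have hzfix : ∀ v ∈ mov (σ ys * σ ys), σ z' v = v := by
      refine fix_of_commute hF hk hrk ?_ (hiso ys) (hiso z') ?_ ?_ hN ?_
      · rw [← hys2]; exact hroot.1
      · rw [← hys2]; exact hroot.2
      · exact (show Commute z' ys from Subtype.ext hzy).map σ
      · rw [← map_pow, show z' ^ N = 1 from Subtype.ext (by rw [SubgroupClass.coe_pow]; exact hzN), map_one]
    rw [← hys2] at hzfix
    -- the elements fixing the plane pointwise
    let A : Subgroup (stab Y Z ω) :=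
      { carrier := {d | ∀ v ∈ mov (σP (y' * y')), σ d v = v}
        one_mem' := fun v _ => by rw [map_one, MulAut.one_apply]
        mul_mem' := fun {a b} ha hb v hv => by rw [map_mul, MulAut.mul_apply, hb v hv, ha v hv]
        inv_mem' := fun {a} ha v hv => by
          rw [map_inv]; conv_lhs => rw [← ha v hv]
          rw [← MulAut.mul_apply, inv_mul_cancel, MulAut.one_apply] }
    set bs : stab Y Z ω := ⟨b, hPs hbP⟩
    have hbinv : ∀ v ∈ mov (σP (y' * y')), σ bs⁻¹ v ∈ mov (σP (y' * y')) := fun v hv => by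
      have hc2 : Commute (σ bs⁻¹) (σP (y' * y')) := by
        have := hbc.inv_left
        rwa [← map_inv] at this
      rw [mem_mov, ← MulAut.mul_apply, ← hc2.eq, MulAut.mul_apply, mem_mov.mp hv, map_inv]
    have hcomA : ∀ i : ℕ, ⁅z' ^ i, bs⁆ ∈ A := fun i v hv => by
      have hzi : z' ^ i ∈ A := A.pow_mem (show z' ∈ A from hzfix) i
      rw [commutatorElement_def, map_mul, map_mul, map_mul, MulAut.mul_apply, MulAut.mul_apply, MulAut.mul_apply]
      have hv' := hbinv v hv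
      rw [(A.inv_mem hzi) _ hv']
      show σ (z' ^ i) ((σ bs * σ bs⁻¹) v) = v
      rw [← map_mul, mul_inv_cancel, map_one, MulAut.one_apply, hzi v hv]
    set Pz : stab Y Z ω := (l.map fun i => ⁅z' ^ i, bs⁆).prod with hPz
    have hPA : Pz ∈ A := list_prod_mem fun x hx => by
      obtain ⟨i, -, rfl⟩ := List.mem_map.mp hx
      exact hcomA i
    have hPzc : (Pz : Γ) = (l.map fun i => ⁅z ^ i, b⁆).prod := by
      rw [hPz, ← Subgroup.coe_subtype, map_list_prod, List.map_map]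
      congr 1
    set f₀ := b⁻¹ * (Pz : Γ) with hf₀
    have hf : f₀ ∈ Φ := by rw [hf₀, hPzc]; exact hl
    have hbb : b * b = (Pz : Γ) * (Pz : Γ) := by
      have hbf : b * f₀ = (Pz : Γ) := by rw [hf₀, mul_inv_cancel_left]
      rw [← hbf]
      calc b * b = b * (f₀ * f₀) * b := by rw [hL.sq _ hf, mul_one]
        _ = b * f₀ * (f₀ * b) := by group
        _ = b * f₀ * (b * f₀) := by rw [hL.central _ hf b hbT]
    show σ _ u = u
    rw [show Subgroup.inclusion hPs (⟨b, hbP⟩ * ⟨b, hbP⟩) = Pz * Pz from Subtype.ext hbb]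
    exact A.mul_mem hPA hPA u hu

/-- The local `2`-group centralizes a normal odd `r`-subgroup. -/
theorem centralizes {Γ : Type u} [Group Γ] [Finite Γ] [IsAlgClosed K] [FiniteDimensional K V] [CharP K 2]
    {ρ : Γ →* Module.End K V} (hρ : Function.Injective ρ) {r : ℕ} [hr : Fact r.Prime] (hr2 : r ≠ 2)
    (P : Subgroup Γ) [P.Normal] (hP : IsPGroup r P) {n : ℕ} (hn : 1 ≤ n)
    (hdef : ∀ x : Γ, IsPGroup 2 (zpowers x) →
      x ^ 2 ^ (n + 1) = 1 ∧ (ρ x - 1) ^ (2 ^ (n + 1) - 1) = 0)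
    {h : Γ} (hh : IsPGroup 2 (zpowers h)) {T Φ J : Subgroup Γ}
    (hJ : J ≤ closure {g | ∃ x : Γ, IsPGroup 2 (zpowers x) ∧ g = x ^ 2 ^ n})
    (hL : Local T Φ J (h ^ 2 ^ n) (h ^ 2 ^ (n - 1))) :
    ∀ t ∈ T, ∀ u ∈ P, t * u * t⁻¹ = u := by
  classical
  haveI : Fact (Nat.Prime 2) := ⟨Nat.prime_two⟩
  obtain ⟨H, hHc, hHcomm, hHpow, hHcent⟩ := Cfsg.Agent.Invol.exists_critical hP
  haveI := hHc
  haveI : (H ⊓ centralizer (H : Set P)).Characteristic := by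
    refine Subgroup.characteristic_iff_comap_eq.mpr fun φ => ?_
    rw [Subgroup.comap_inf, Subgroup.Characteristic.fixed (H := H) inferInstance φ,
      Subgroup.Characteristic.fixed (H := centralizer (H : Set P)) inferInstance φ]
  set Y := H.map P.subtype with hYdef
  set Z := (H ⊓ centralizer (H : Set P)).map P.subtype with hZdef
  haveI : Y.Normal := inferInstance
  haveI : Z.Normal := inferInstance
  have hYP : Y ≤ P := map_subtype_le _
  have hS : Setting 2 Y Z := by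
    refine ⟨map_mono inf_le_left, ?_, ?_, ?_⟩
    · rintro _ ⟨g, hg, rfl⟩ _ ⟨t, ht, rfl⟩
      exact ⟨⁅t, g⁆, hHcomm (commutator_mem_commutator ht (mem_top g)), by simp [commutatorElement_def]⟩
    · rintro _ ⟨z, hz, rfl⟩ _ ⟨g, hg, rfl⟩
      exact congrArg Subtype.val (mem_centralizer_iff.mp hz.2 g hg)
    · obtain ⟨e, he⟩ := IsPGroup.iff_card.mp (hP.to_le hYP)
      rw [he]
      exact fun h => hr2 ((Nat.prime_dvd_prime_iff_eq Nat.prime_two hr.out).mp (Nat.prime_two.dvd_of_dvd_pow h)).symm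
  have hYr : ∀ u ∈ Y, u ^ r ∈ Z := by
    rintro _ ⟨a, ha, rfl⟩
    exact ⟨a ^ r, hHpow a ha, by simp⟩
  have hZcard : (Nat.card Z : K) ≠ 0 := fun e =>
    hS.coprime (((CharP.cast_eq_zero_iff K 2 _).mp e).trans (card_dvd_of_le hS.le))
  have htop := iSup_chEigen_eq_top ρ Z (fun a ha d hd => by
    rw [← map_mul, ← map_mul, hS.central d hd a (hS.le ha)]) hZcard
  have hext : ∀ a b : Γ, (∀ ω : Γ → K, chEigen ρ Z ω ≠ ⊥ → ∀ v ∈ chEigen ρ Z ω, ρ a v = ρ b v) → a = b := by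
    intro a b hab
    apply hρ
    rw [← LinearMap.eqLocus_eq_top, eq_top_iff, ← htop]
    refine iSup_le fun ω => ?_
    rcases eq_or_ne (chEigen ρ Z ω) ⊥ with hb | hW
    · rw [hb]; exact bot_le
    exact fun v hv => hab ω hW v hv
  have hsec := fun {ω : Γ → K} (hW : chEigen ρ Z ω ≠ ⊥) =>
    section_trivial hr2 hS (hP.to_le hYP) hYr hn hdef hh hJ hL hW
  -- `T` centralizes `Z` and `Y` modulo `Z`
  have hZfix : ∀ t ∈ T, ∀ z ∈ Z, t * z * t⁻¹ = z := fun t ht z hz => by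
    refine hext _ _ fun ω hW v hv => ?_
    obtain ⟨hst, -⟩ := hsec hW
    have hs := hst t (hL.TJ ht)
    rw [(mem_chEigen ρ).mp hv _ ((mem_normalizer_iff.mp hs.2.1 z).mp hz), (mem_chEigen ρ).mp hv _ hz, hs.2.2 z hz]
  have hmod : ∀ t ∈ T, ∀ u ∈ Y, u⁻¹ * (t * u * t⁻¹) ∈ Z := fun t ht u hu => by
    set d := u⁻¹ * (t * u * t⁻¹) with hd
    have hdY : d ∈ Y := Y.mul_mem (Y.inv_mem hu) ((inferInstance : Y.Normal).conj_mem u hu t)
    obtain ⟨d', hd'H, hd'⟩ := hdY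
    refine ⟨d', ⟨hd'H, mem_centralizer_iff.mpr fun g hg => Subtype.ext ?_⟩, hd'⟩
    show (g : Γ) * d' = d' * g
    rw [← commutatorElement_eq_one_iff_mul_comm]
    refine hext _ _ fun ω hW v hv => ?_
    have hgY : (g : Γ) ∈ Y := ⟨g, hg, rfl⟩
    have hdr := (hsec hW).2 t ht u hu
    rw [show (d' : Γ) = d from hd', (mem_chEigen ρ).mp hv _ (hS.comm _ (mem_rad.mp hdr).1 _ hgY),
      (mem_rad.mp hdr).2 _ hgY, one_smul, map_one, Module.End.one_apply]
  have hYfix : ∀ t ∈ T, ∀ u ∈ Y, t * u * t⁻¹ = u := fun t ht u hu => by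
    set d := u⁻¹ * (t * u * t⁻¹) with hd
    have hdZ := hmod t ht u hu
    have hpow : ∀ i : ℕ, t ^ i * u * (t ^ i)⁻¹ = u * d ^ i := by
      intro i
      induction i with
      | zero => simp
      | succ i ih =>
        have h1 : t * d ^ i * t⁻¹ = d ^ i := hZfix t ht _ (Z.pow_mem hdZ i)
        calc t ^ (i + 1) * u * (t ^ (i + 1))⁻¹ = t * (t ^ i * u * (t ^ i)⁻¹) * t⁻¹ := by rw [pow_succ']; group
          _ = (t * u * t⁻¹) * (t * d ^ i * t⁻¹) := by rw [ih]; group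
          _ = u * d ^ (i + 1) := by
            rw [h1, pow_succ', ← mul_assoc u, show t * u * t⁻¹ = u * d by rw [hd]; group]
    obtain ⟨a, ha⟩ := hL.twoT ⟨t, ht⟩
    have ha' : t ^ 2 ^ a = 1 := congrArg Subtype.val ha
    have h1 := hpow (2 ^ a)
    rw [ha', one_mul, inv_one, mul_one, left_eq_mul] at h1
    obtain ⟨b, hb⟩ := hP ⟨d, hYP (hS.le hdZ)⟩
    have hb' : d ^ r ^ b = 1 := congrArg Subtype.val hb
    have hco : Nat.Coprime (2 ^ a) (r ^ b) := Nat.Coprime.pow _ _ ((Nat.coprime_primes Nat.prime_two hr.out).mpr (Ne.symm hr2))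
    have : d = 1 := by
      have := pow_gcd_eq_one.mpr ⟨h1, hb'⟩
      rwa [hco, pow_one] at this
    calc t * u * t⁻¹ = u * d := by rw [hd]; group
      _ = u := by rw [this, mul_one]
  intro t ht u hu
  let a : MulAut P := MulAut.conjNormal t
  have hord : (orderOf a).Coprime r := by
    obtain ⟨k, hk⟩ := hL.twoT ⟨t, ht⟩
    have hk' : t ^ 2 ^ k = 1 := congrArg Subtype.val hk
    refine Nat.Coprime.coprime_dvd_left (orderOf_dvd_of_pow_eq_one (show a ^ 2 ^ k = 1 by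
      rw [← map_pow, hk', map_one])) (((Nat.coprime_primes Nat.prime_two hr.out).mpr (Ne.symm hr2)).pow_left k)
  have ha1 : a = 1 := Cfsg.Agent.Invol.aut_eq_one_of_fixed hP hHcent hord fun x hx =>
    Subtype.ext (by
      show ((MulAut.conjNormal t x : P) : Γ) = x
      rw [MulAut.conjNormal_apply]
      exact hYfix t ht x ⟨x, hx, rfl⟩)
  have := congrArg (fun e : MulAut P => ((e ⟨u, hu⟩ : P) : Γ)) ha1
  simpa [a, MulAut.conjNormal_apply] using this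

end Cfsg.Agent.Grp.Gross
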