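import Mathlib
import Cfsg.Agent.Lib.Grp.GrossTwo.Section
import Cfsg.Agent.Lib.Grp.Coprime
import Cfsg.Agent.Lib.Grp.PLengthSeries

/-!
Lifting the local `2`-subgroup through an epimorphism with kernel of odd order.
-/

set_option autoImplicit false
set_option linter.style.haveILetI false
set_option linter.unusedSectionVars false

namespace Cfsg.Agent.Grp.Gross

open Subgroup
open scoped commutatorElement Pointwise

theorem eq_one_of_two_odd {G : Type*} [Group G] {P K : Subgroup G} (hP : IsPGroup 2 P)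
    (hK : ¬ 2 ∣ Nat.card K) {g : G} (h1 : g ∈ P) (h2 : g ∈ K) : g = 1 := by
  obtain ⟨k, hk⟩ := hP ⟨g, h1⟩
  have hk' : g ^ 2 ^ k = 1 := congrArg Subtype.val hk
  have hm : g ^ Nat.card K = 1 := congrArg Subtype.val (pow_card_eq_one' (x := (⟨g, h2⟩ : K)))
  have := pow_gcd_eq_one.mpr ⟨hk', hm⟩
  rwa [((Nat.prime_two.coprime_iff_not_dvd.mpr hK).pow_left k : Nat.Coprime (2 ^ k) (Nat.card K)), pow_one] at this

/-- A local subgroup in the image lifts to one inside a normal subgroup of the source. -/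
theorem exists_lift {Γ G : Type*} [Group Γ] [Finite Γ] [Group G] [Finite G] (f : Γ →* G)
    (hf : Function.Surjective f) (hker : ¬ 2 ∣ Nat.card f.ker) {T1 Φ1 J1 : Subgroup G} {c y : Γ}
    (hL : Local T1 Φ1 J1 (f c) (f y)) (hcy : c = y * y) (hcc : c * c = 1)
    (hy2 : IsPGroup 2 (zpowers y)) (L : Subgroup Γ) [hLn : L.Normal] (hcL : c ∈ L) (hJ1 : J1 ≤ L.map f) :
    ∃ T Φ J : Subgroup Γ, Local T Φ J c y ∧ J ≤ L ∧ T1 ≤ T.map f := by
  classical
  haveI : Fact (Nat.Prime 2) := ⟨Nat.prime_two⟩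
  -- a `2`-group above `y` mapping onto `T1 ⊔ zpowers (f y)`
  set E := T1 ⊔ zpowers (f y) with hE
  have hEp : IsPGroup 2 E := hL.twoT.to_sup_of_normal_left' (by
    have := hy2.map f
    rwa [MonoidHom.map_zpowers] at this) (zpowers_le.mpr hL.norm)
  set M := E.comap f with hM
  have hyM : y ∈ M := mem_sup_right (mem_zpowers (f y))
  obtain ⟨P, hP, hyP⟩ : ∃ P, IsSylowIn 2 P M ∧ y ∈ P := by
    have hyM' : IsPGroup 2 ((zpowers y).subgroupOf M) :=
      hy2.comap_of_injective M.subtype M.subtype_injective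
    obtain ⟨P, hP⟩ := hyM'.exists_le_sylow
    exact ⟨_, isSylowIn_iff.mpr ⟨P, rfl⟩, ⟨⟨y, hyM⟩, hP (mem_subgroupOf.mpr (mem_zpowers y)), rfl⟩⟩
  have hPmap : E ≤ P.map f := by
    refine relIndex_eq_one.mp ?_
    have h1 : (P.map f).relIndex (M.map f) ∣ P.relIndex M := relIndex_map_dvd f hP.1
    rw [hM, map_comap_eq_self_of_surjective hf] at h1
    obtain ⟨k, hk⟩ := hEp.index ((P.map f).subgroupOf E)
    rcases k.eq_zero_or_pos with rfl | hk0
    · simpa [relIndex] using hk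
    · exact absurd ((dvd_pow_self 2 hk0.ne').trans (hk ▸ h1)) hP.2.2
  set T := P ⊓ (L ⊓ T1.comap f) with hT
  have hTp : IsPGroup 2 T := hP.2.1.to_le inf_le_left
  have hinj : ∀ t ∈ T, f t = 1 → t = 1 := fun t ht h1 =>
    eq_one_of_two_odd hTp hker ht (MonoidHom.mem_ker.mpr h1)
  have hinj' : ∀ s ∈ T, ∀ t ∈ T, f s = f t → s = t := fun s hs t ht h1 => by
    rw [← mul_inv_eq_one]
    exact hinj _ (T.mul_mem hs (T.inv_mem ht)) (by rw [map_mul, map_inv, h1, mul_inv_cancel])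
  have hTmap : ∀ a ∈ T1, ∃ t ∈ T, f t = a := by
    intro a ha
    obtain ⟨p, hpP, rfl⟩ := hPmap (mem_sup_left ha)
    refine ⟨p, ⟨hpP, ?_, ha⟩, rfl⟩
    obtain ⟨m, hm, hfm⟩ := hJ1 (hL.TJ ha)
    -- the image of `p` modulo `L` has both odd and `2`-power order
    obtain ⟨k, hk⟩ := hP.2.1 ⟨p, hpP⟩
    have hk' : p ^ 2 ^ k = 1 := congrArg Subtype.val hk
    set π := QuotientGroup.mk' L
    have hkk : p * m⁻¹ ∈ f.ker := by rw [MonoidHom.mem_ker, map_mul, map_inv, hfm, mul_inv_cancel]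
    have h1 : π p ^ 2 ^ k = 1 := by rw [← map_pow, hk', map_one]
    have h2 : π p ^ Nat.card f.ker = 1 := by
      have e : π p = π (p * m⁻¹) := by
        rw [map_mul, map_inv, show π m = 1 from (QuotientGroup.eq_one_iff m).mpr hm, inv_one, mul_one]
      rw [e, ← map_pow, show (p * m⁻¹) ^ Nat.card f.ker = 1 from
        congrArg Subtype.val (pow_card_eq_one' (x := (⟨_, hkk⟩ : f.ker))), map_one]
    have := pow_gcd_eq_one.mpr ⟨h1, h2⟩
    rw [((Nat.prime_two.coprime_iff_not_dvd.mpr hker).pow_left k : Nat.Coprime (2 ^ k) (Nat.card f.ker)), pow_one] at this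
    exact (QuotientGroup.eq_one_iff p).mp this
  have hTf : ∀ t ∈ T, f t ∈ T1 := fun t ht => ht.2.2
  set M2 := L ⊓ T1.comap f with hM2
  have hTM : T ≤ M2 := inf_le_right
  have hTsyl : IsSylowIn 2 T M2 := by
    refine ⟨hTM, hTp, fun h2 => ?_⟩
    have hcard : Nat.card T = Nat.card T1 := by
      refine Nat.card_congr (Equiv.ofBijective (fun t : T => (⟨f t, hTf t t.2⟩ : T1)) ⟨fun s t h => ?_, fun a => ?_⟩)
      · exact Subtype.ext (hinj' _ s.2 _ t.2 (congrArg Subtype.val h))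
      · obtain ⟨t, ht, e⟩ := hTmap a a.2
        exact ⟨⟨t, ht⟩, Subtype.ext e⟩
    have hM2map : M2.map f = T1 := le_antisymm (by rintro _ ⟨m, hm, rfl⟩; exact hm.2) fun a ha => by
      obtain ⟨t, ht, e⟩ := hTmap a ha
      exact ⟨t, hTM ht, e⟩
    have e1 := relIndex_ker M2 f
    rw [hM2map] at e1
    have e2 : T.relIndex M2 * Nat.card T = Nat.card M2 := by
      rw [mul_comm, ← relIndex_bot_left, relIndex_mul_relIndex _ _ _ bot_le hTM, relIndex_bot_left]
    have e3 : Nat.card (f.ker ⊓ M2 : Subgroup Γ) * Nat.card T1 = Nat.card M2 := by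
      rw [← e1, ← inf_relIndex_right, ← relIndex_bot_left, relIndex_mul_relIndex _ _ _ bot_le inf_le_right,
        relIndex_bot_left]
    rw [← e3, hcard] at e2
    have e4 := mul_right_cancel₀ (Nat.card_pos (α := T1)).ne' e2
    exact hker ((e4 ▸ h2).trans (card_dvd_of_le inf_le_left))
  have hyT : y ∈ normalizer (T : Set Γ) := by
    have hsur : ∀ x, x ∈ L ↔ y * x * y⁻¹ ∈ L := fun x => ⟨fun h => hLn.conj_mem x h y, fun h => by
      have := hLn.conj_mem _ h y⁻¹
      simpa [mul_assoc] using this⟩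
    refine mem_normalizer_iff.mpr fun x => ?_
    refine and_congr ?_ (and_congr (hsur x) ?_)
    · exact mem_normalizer_iff.mp (Subgroup.le_normalizer hyP) x
    · show f x ∈ T1 ↔ f (y * x * y⁻¹) ∈ T1
      rw [map_mul, map_mul, map_inv]
      exact mem_normalizer_iff.mp hL.norm (f x)
  set Φ := T ⊓ Φ1.comap f with hΦ
  set J := L ⊓ (normalizer (T : Set Γ) ⊓ J1.comap f) with hJ
  have hcT : c ∈ normalizer (T : Set Γ) := hcy ▸ mul_mem hyT hyT
  have hcJ : c ∈ J := ⟨hcL, hcT, hL.cJ⟩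
  have hTJ : T ≤ J := fun t ht => ⟨ht.2.1, Subgroup.le_normalizer ht, hL.TJ (hTf t ht)⟩
  -- `J` maps onto `J1`
  have hJmap : ∀ a ∈ J1, ∃ j ∈ J, f j = a := by
    intro a ha
    obtain ⟨j, hj, rfl⟩ := hJ1 ha
    have hjM : MulAut.conj j • M2 = M2 := by
      refine mem_normalizer_iff_smul.mp (mem_normalizer_iff.mpr fun x => and_congr ?_ ?_)
      · exact mem_normalizer_iff.mp (Subgroup.le_normalizer hj) x
      · show f x ∈ T1 ↔ f (j * x * j⁻¹) ∈ T1
        rw [map_mul, map_mul, map_inv]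
        exact mem_normalizer_iff.mp (hL.JT ha) (f x)
    obtain ⟨k, hk, hkT⟩ := (hTsyl.smul hjM).conj hTsyl
    have hkj : k * j ∈ normalizer (T : Set Γ) := by
      rw [mem_normalizer_iff_smul, map_mul, ← smul_smul]
      exact hkT
    obtain ⟨t, ht, hft⟩ := hTmap (f k)⁻¹ (T1.inv_mem hk.2)
    refine ⟨t * (k * j), ⟨L.mul_mem ht.2.1 (L.mul_mem hk.1 hj), mul_mem (Subgroup.le_normalizer ht) hkj, ?_⟩, ?_⟩
    · show f (t * (k * j)) ∈ J1
      rw [map_mul, map_mul, hft, inv_mul_cancel_left]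
      exact ha
    · rw [map_mul, map_mul, hft, inv_mul_cancel_left]
  refine ⟨T, Φ, J, ⟨hTp, hcy, hcc, hyT, inf_le_left, fun g hg t ht => ?_, fun g hg => ?_, hcJ, hTJ,
    fun j hj => hj.2.1, fun N hcN hN => ?_, fun U hU hUJ hUy => ?_, fun hall => ?_, ?_⟩, inf_le_left,
    fun a ha => ?_⟩
  · exact hinj' _ (T.mul_mem hg.1 ht) _ (T.mul_mem ht hg.1) (by
      rw [map_mul, map_mul]; exact hL.central _ hg.2 _ (hTf t ht))
  · exact hinj _ (T.mul_mem hg.1 hg.1) (by rw [map_mul]; exact hL.sq _ hg.2)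
  · -- generation
    have h1 : T1 ≤ (N ⊓ J).map f := by
      refine hL.gen _ ⟨c, ⟨hcN, hcJ⟩, rfl⟩ ?_
      rintro a ha _ ⟨x, hx, rfl⟩
      obtain ⟨j, hj, rfl⟩ := hJmap a ha
      exact ⟨j * x * j⁻¹, ⟨hN j hj x hx.1, J.mul_mem (J.mul_mem hj hx.2) (J.inv_mem hj)⟩, by simp⟩
    intro t ht
    obtain ⟨x, hx, hfx⟩ := h1 (hTf t ht)
    set k := t⁻¹ * x with hk
    have hkker : k ∈ f.ker := by rw [hk, MonoidHom.mem_ker, map_mul, map_inv, hfx, inv_mul_cancel]
    have hkn : k ∈ normalizer (T : Set Γ) := mul_mem (inv_mem (Subgroup.le_normalizer ht)) hx.2.2.1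
    have hcomm : k * t * k⁻¹ = t := hinj' _ ((mem_normalizer_iff.mp hkn t).mp ht) _ ht (by
      rw [map_mul, map_mul, map_inv, MonoidHom.mem_ker.mp hkker, one_mul, inv_one, mul_one])
    have hco : Commute t k := (mul_inv_eq_iff_eq_mul.mp hcomm).symm
    have hpow : t ^ Nat.card f.ker ∈ N := by
      have : x ^ Nat.card f.ker = t ^ Nat.card f.ker := by
        rw [show x = t * k by rw [hk, mul_inv_cancel_left], hco.mul_pow,
          show k ^ Nat.card f.ker = 1 from congrArg Subtype.val (pow_card_eq_one' (x := (⟨k, hkker⟩ : f.ker))),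
          mul_one]
      exact this ▸ N.pow_mem hx.1 _
    obtain ⟨e, he⟩ := hTp ⟨t, ht⟩
    have he' : t ^ 2 ^ e = 1 := congrArg Subtype.val he
    have hco2 : Nat.Coprime (Nat.card f.ker) (orderOf t) :=
      ((Nat.prime_two.coprime_iff_not_dvd.mpr hker).pow_left e).symm.coprime_dvd_right (orderOf_dvd_of_pow_eq_one he')
    obtain ⟨m, hm⟩ := exists_pow_eq_self_of_coprime hco2
    exact hm ▸ N.pow_mem hpow m
  · -- smallness
    rcases hL.small (U.map f) (by rintro _ ⟨u, hu, rfl⟩; exact hTf u (hU hu))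
        (by
          rintro a ha _ ⟨u, hu, rfl⟩
          obtain ⟨j, hj, rfl⟩ := hJmap a ha
          exact ⟨j * u * j⁻¹, hUJ j hj u hu, by simp⟩)
        (by rintro _ ⟨u, hu, rfl⟩; exact ⟨y * u * y⁻¹, hUy u hu, by simp⟩) with h | h
    · refine Or.inl fun t ht => ?_
      obtain ⟨u, hu, e⟩ := h (hTf t ht)
      exact hinj' u (hU hu) t ht e ▸ hu
    · exact Or.inr fun u hu => ⟨hU hu, h ⟨u, hu, rfl⟩⟩
  · refine hL.nonfix fun a ha => ?_
    obtain ⟨b, hb, rfl⟩ := hTmap a ha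
    rw [← map_commutatorElement]
    exact (hall b hb).2
  · -- control
    have hcomT : ∀ g ∈ normalizer (T : Set Γ), ∀ b ∈ T, ⁅b, g⁆ ∈ T ∧ ⁅g, b⁆ ∈ T := fun g hg b hb => by
      have h1 : g * b⁻¹ * g⁻¹ ∈ T := (mem_normalizer_iff.mp hg _).mp (T.inv_mem hb)
      have h2 : g * b * g⁻¹ ∈ T := (mem_normalizer_iff.mp hg _).mp hb
      refine ⟨?_, ?_⟩
      · rw [commutatorElement_def, show b * g * b⁻¹ * g⁻¹ = b * (g * b⁻¹ * g⁻¹) by group]
        exact T.mul_mem hb h1
      · rw [commutatorElement_def]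
        exact T.mul_mem h2 (T.inv_mem hb)
    rcases hL.control with hA | ⟨z₁, hz₁, N, hN, hzN, hzy, hB⟩
    · refine Or.inl fun b hb hbc => ?_
      obtain ⟨w, hw, hwf⟩ := hA (f b) (hTf b hb) (by rw [← map_commutatorElement]; exact hbc.2)
      obtain ⟨v, hv, rfl⟩ := hTmap w hw
      refine ⟨v, hv, T.mul_mem (T.inv_mem hb) (hcomT c hcT v hv).1, ?_⟩
      show f (b⁻¹ * ⁅v, c⁆) ∈ Φ1
      rwa [map_mul, map_inv, map_commutatorElement]
    · obtain ⟨z₀, hz₀, hfz⟩ := hJmap z₁ hz₁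
      set Z := L ⊓ (normalizer (T : Set Γ) ⊓ (zpowers z₁).comap f) with hZ
      set K := L ⊓ (normalizer (T : Set Γ) ⊓ f.ker) with hK
      have hZodd : ¬ 2 ∣ Nat.card Z := by
        intro h2
        obtain ⟨g, hg⟩ := exists_prime_orderOf_dvd_card' 2 h2
        have hg2 : (g : Γ) ^ 2 = 1 := by
          rw [← SubgroupClass.coe_pow, ← hg, pow_orderOf_eq_one, OneMemClass.coe_one]
        have hfg : f (g : Γ) = 1 := by
          obtain ⟨i, hi⟩ := mem_zpowers_iff.mp g.2.2.2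
          have h1 : f (g : Γ) ^ N = 1 := by
            rw [← hi, ← zpow_natCast, zpow_comm, zpow_natCast, hzN, one_zpow]
          have h3 : f (g : Γ) ^ 2 = 1 := by rw [← map_pow, hg2, map_one]
          have := pow_gcd_eq_one.mpr ⟨h3, h1⟩
          rwa [(Nat.prime_two.coprime_iff_not_dvd.mpr hN.not_two_dvd_nat : Nat.Coprime 2 N), pow_one] at this
        have : (g : Γ) = 1 := eq_one_of_two_odd (P := zpowers (g : Γ))
          (fun a => ⟨1, by
            obtain ⟨i, hi⟩ := mem_zpowers_iff.mp a.2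
            refine Subtype.ext ?_
            rw [SubgroupClass.coe_pow, ← hi, pow_one, ← zpow_natCast, zpow_comm, zpow_natCast, hg2, one_zpow,
              OneMemClass.coe_one]⟩) hker (mem_zpowers _) (MonoidHom.mem_ker.mpr hfg)
        rw [show g = 1 from Subtype.ext this, orderOf_one] at hg
        omega
      have hyZ : ∀ x, x ∈ Z ↔ y * x * y⁻¹ ∈ Z := by
        intro x
        refine and_congr ⟨fun h => hLn.conj_mem x h y, fun h => by simpa [mul_assoc] using hLn.conj_mem _ h y⁻¹⟩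
          (and_congr ?_ ?_)
        · exact mem_normalizer_iff.mp (Subgroup.le_normalizer hyT) x
        · show f x ∈ zpowers z₁ ↔ f (y * x * y⁻¹) ∈ zpowers z₁
          rw [map_mul, map_mul, map_inv]
          refine mem_normalizer_iff.mp (Cfsg.Agent.Grp.mem_normalizer_of_map_eq.mpr ?_) (f x)
          rw [MonoidHom.map_zpowers]
          congr 1
          show f y * z₁ * (f y)⁻¹ = z₁
          rw [← hzy, mul_inv_cancel_right]
      have hA : zpowers y ≤ normalizer (Z : Set Γ) := zpowers_le.mpr (mem_normalizer_iff.mpr hyZ)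
      have hcop : (Nat.card (zpowers y)).Coprime (Nat.card Z) := by
        obtain ⟨e, he⟩ := hy2.exists_card_eq
        rw [he]
        exact (Nat.prime_two.coprime_iff_not_dvd.mpr hZodd).pow_left e
      have hKZ : K ≤ Z := fun x hx => ⟨hx.1, hx.2.1, by
        show f x ∈ zpowers z₁
        rw [MonoidHom.mem_ker.mp hx.2.2]; exact one_mem _⟩
      have hKn : ∀ g, g ∈ normalizer (T : Set Γ) → g ∈ normalizer (K : Set Γ) := fun g hg =>
        mem_normalizer_iff.mpr fun x => and_congr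
          ⟨fun h => hLn.conj_mem x h g, fun h => by simpa [mul_assoc] using hLn.conj_mem _ h g⁻¹⟩
          (and_congr (mem_normalizer_iff.mp (Subgroup.le_normalizer hg) x) (by simp [MonoidHom.mem_ker]))
      have hz₀Z : z₀ ∈ Z := ⟨hz₀.1, hz₀.2.1, by show f z₀ ∈ zpowers z₁; rw [hfz]; exact mem_zpowers z₁⟩
      obtain ⟨z, ⟨hzZ, hzc⟩, hzk⟩ := exists_fixed_rep (zpowers y) Z K hA (inf_eq_bot_of_coprime hcop)
        (hcop.coprime_dvd_right (card_dvd_of_le hKZ)) (Or.inl inferInstance) hKZ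
        (fun g hg => hKn g hg.2.1) (zpowers_le.mpr (hKn y hyT)) hz₀Z (fun a ha => by
          refine ⟨?_, ?_, ?_⟩
          · exact L.mul_mem (hLn.conj_mem _ hz₀.1 a) (L.inv_mem hz₀.1)
          · have ha' := (zpowers_le.mpr hyT) ha
            exact (normalizer (T : Set Γ)).mul_mem ((normalizer (T : Set Γ)).mul_mem
              ((normalizer (T : Set Γ)).mul_mem ha' hz₀.2.1) ((normalizer (T : Set Γ)).inv_mem ha'))
              ((normalizer (T : Set Γ)).inv_mem hz₀.2.1)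
          · obtain ⟨i, rfl⟩ := mem_zpowers_iff.mp ha
            show f (y ^ i * z₀ * (y ^ i)⁻¹ * z₀⁻¹) = 1
            rw [map_mul, map_mul, map_mul, map_inv, map_inv, map_zpow, hfz,
              ((show Commute (f y) z₁ from hzy.symm).zpow_left i).eq, mul_inv_cancel_right, mul_inv_cancel])
      have hfzz : f z = z₁ := by
        have := MonoidHom.mem_ker.mp hzk.2.2
        rw [map_mul, map_inv, hfz, inv_mul_eq_one] at this
        exact this.symm
      refine Or.inr ⟨z, ⟨hzZ.1, hzZ.2.1, by show f z ∈ J1; rw [hfzz]; exact hz₁⟩, Nat.card Z,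
        Nat.odd_iff.mpr (by omega), congrArg Subtype.val (pow_card_eq_one' (x := (⟨z, hzZ⟩ : Z))),
        (mem_centralizer_iff.mp hzc y (mem_zpowers y)).symm, fun b hb hbc => ?_⟩
      obtain ⟨l, hl⟩ := hB (f b) (hTf b hb) (by rw [← map_commutatorElement]; exact hbc.2)
      refine ⟨l, T.mul_mem (T.inv_mem hb) (list_prod_mem fun x hx => ?_), ?_⟩
      · obtain ⟨i, -, rfl⟩ := List.mem_map.mp hx
        exact (hcomT _ (pow_mem hzZ.2.1 i) b hb).2
      · show f (b⁻¹ * _) ∈ Φ1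
        rw [map_mul, map_inv, map_list_prod, List.map_map]
        rw [show ((f : Γ → G) ∘ fun i : ℕ => ⁅z ^ i, b⁆) = fun i => ⁅z₁ ^ i, f b⁆ from
          funext fun i => by simp [map_commutatorElement, hfzz]]
        exact hl
  · obtain ⟨t, ht, e⟩ := hTmap a ha
    exact ⟨t, ht, e⟩

end Cfsg.Agent.Grp.Gross
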