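import Mathlib
import Cfsg.Agent.Lib.Grp.GrossTwo.Section
import Cfsg.Agent.Lib.Grp.PComponents
import Cfsg.Agent.S3736

/-!
A top power outside the `2`-core produces a local `2`-subgroup.
-/

set_option autoImplicit false
set_option linter.style.haveILetI false
set_option linter.unusedSectionVars false

namespace Cfsg.Agent.Grp.Gross

open Subgroup
open scoped commutatorElement Pointwise

universe u

variable {G : Type u} [Group G] [Finite G]

theorem mem_normalizer_conj {R : Subgroup G} {y : G} (h : ∀ g ∈ R, y * g * y⁻¹ ∈ R) :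
    y ∈ normalizer (R : Set G) := by
  refine Cfsg.Agent.Grp.mem_normalizer_of_map_eq.mpr (Subgroup.eq_of_le_of_card_ge ?_
    (Subgroup.card_map_of_injective (MulAut.conj y).injective).ge)
  rintro _ ⟨g, hg, rfl⟩
  exact h g hg

/-- An element whose top power is not in the `2`-core has a conjugate-like companion normalizing an odd
`q`-group that the top power does not centralize. -/
theorem exists_companion (hG : Cfsg.IsPSolvable 2 G) {n : ℕ}
    (hexp : ∀ x : G, IsPGroup 2 (zpowers x) → x ^ 2 ^ (n + 1) = 1) {h : G} (hh : IsPGroup 2 (zpowers h))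
    (hnot : h ^ 2 ^ n ∉ Cfsg.pCore 2 G) :
    ∃ (q : ℕ) (Q : Subgroup G) (w : G), q.Prime ∧ q ≠ 2 ∧ IsPGroup q Q ∧ IsPGroup 2 (zpowers w) ∧
      w ∈ normalizer (Q : Set G) ∧ ⁅Q, zpowers (w ^ 2 ^ n)⁆ ≠ ⊥ := by
  classical
  haveI : Fact (Nat.Prime 2) := ⟨Nat.prime_two⟩
  set T0 := Cfsg.pCore 2 G with hT0
  haveI : T0.Normal := pCore_isNormal
  set π := QuotientGroup.mk' T0 with hπ
  have hπs : Function.Surjective π := QuotientGroup.mk'_surjective _
  have hker : π.ker = T0 := QuotientGroup.ker_mk' T0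
  have hT0p : IsPGroup 2 T0 := pCore_isPGroup
  have hO2 : Cfsg.pCore 2 (G ⧸ T0) = ⊥ := by
    rw [← Subgroup.map_comap_eq_self_of_surjective hπs (Cfsg.pCore 2 (G ⧸ T0)), Subgroup.map_eq_bot_iff, hker]
    exact le_pCore ((pCore_isNormal).comap π) ((pCore_isPGroup).comap_of_ker_isPGroup π (hker.symm ▸ hT0p))
  have hG2 : Cfsg.IsPSolvable 2 (G ⧸ T0) := isPSolvable_map hG π hπs
  set c2 := π h ^ 2 ^ n with hc2
  have hc2o : c2 ^ 2 = 1 := by
    rw [hc2, ← pow_mul, ← pow_succ, ← map_pow, hexp h hh, map_one]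
  have hc2ne : c2 ≠ 1 := fun e => hnot (by
    rw [← hker]; exact MonoidHom.mem_ker.mpr (by rw [map_pow]; exact e))
  set D := Cfsg.pPrimeCore 2 (G ⧸ T0) with hD
  haveI : D.Normal := pPrimeCore_isNormal
  have hhp : IsPGroup 2 (zpowers (π h)) := by
    have := hh.map π
    rwa [MonoidHom.map_zpowers] at this
  have hcop : (Nat.card (zpowers (π h))).Coprime (Nat.card D) := by
    obtain ⟨e, he⟩ := hhp.exists_card_eq
    rw [he]
    exact ((Nat.prime_two.coprime_iff_not_dvd.mpr pPrimeCore_not_dvd).pow_left e)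
  obtain ⟨q, hq, X, hX, hhX, hnc⟩ : ∃ (q : ℕ) (_ : Fact q.Prime) (X : Subgroup (G ⧸ T0)),
      IsSylowIn q X D ∧ π h ∈ normalizer (X : Set (G ⧸ T0)) ∧ ¬ X ≤ centralizer ({c2} : Set (G ⧸ T0)) := by
    by_contra hnon
    push Not at hnon
    refine hc2ne ?_
    have hle : D ≤ centralizer ({c2} : Set (G ⧸ T0)) := by
      refine le_trans (le_of_forall_sylow (K := D) inf_le_left fun q hq => ?_) inf_le_right
      obtain ⟨X, hX, hTX⟩ := exists_invariant_sylow (zpowers (π h)) D
        (by rw [normalizer_eq_top]; exact le_top) hcop (Or.inl inferInstance) q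
      exact ⟨X, hX, le_inf hX.1 (hnon q hq X hX (hTX (mem_zpowers _)))⟩
    have hmem : c2 ∈ D := Block.centralizer_pPrimeCore_le hG2 hO2 (mem_centralizer_iff.mpr fun w hw =>
      mem_centralizer_singleton_iff.mp (hle hw))
    have h2 := Nat.dvd_gcd (orderOf_dvd_of_pow_eq_one hc2o) (orderOf_dvd_natCard _ hmem)
    rw [(Nat.prime_two.coprime_iff_not_dvd.mpr pPrimeCore_not_dvd : Nat.Coprime 2 (Nat.card D))] at h2
    exact orderOf_eq_one_iff.mp (Nat.dvd_one.mp h2)
  have hq2 : q ≠ 2 := by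
    rintro rfl
    obtain ⟨j, hj⟩ := hX.2.1.exists_card_eq
    rcases j.eq_zero_or_pos with rfl | hj0
    · rw [pow_zero] at hj
      exact hnc (card_eq_one.mp hj ▸ bot_le)
    · exact pPrimeCore_not_dvd ((hj ▸ dvd_pow_self 2 hj0.ne' : 2 ∣ Nat.card X).trans (card_dvd_of_le hX.1))
  -- lift to a `q`-group
  set E := X.comap π with hE
  have hTE : T0 ≤ E := fun t ht => by
    rw [hE, mem_comap, show π t = 1 from MonoidHom.mem_ker.mp (hker.symm ▸ ht)]; exact X.one_mem
  obtain ⟨Q, hQ⟩ := exists_isSylowIn q E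
  have hsup : Q ⊔ T0 = E := by
    refine le_antisymm (sup_le hQ.1 hTE) (relIndex_eq_one.mp ?_)
    obtain ⟨e, he⟩ := hX.2.1.exists_card_eq
    have h1 : (Q ⊔ T0).relIndex E ∣ q ^ e := by
      refine (Subgroup.relIndex_dvd_of_le_left E (le_sup_right : T0 ≤ Q ⊔ T0)).trans (dvd_of_eq ?_)
      have h2 := relIndex_ker E π
      rw [hker, hE, map_comap_eq_self_of_surjective hπs] at h2
      rw [← he, ← h2]
    obtain ⟨i, -, hi⟩ := (Nat.dvd_prime_pow hq.out).mp h1
    rcases i.eq_zero_or_pos with rfl | hi0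
    · simpa using hi
    · exact absurd ((hi ▸ dvd_pow_self q hi0.ne' : q ∣ (Q ⊔ T0).relIndex E).trans
        (Subgroup.relIndex_dvd_of_le_left E le_sup_left)) hQ.2.2
  have hmap : Q.map π = X := by
    have := congrArg (Subgroup.map π) hsup
    rwa [Subgroup.map_sup, (Subgroup.map_eq_bot_iff T0).mpr hker.ge, sup_bot_eq, hE,
      map_comap_eq_self_of_surjective hπs] at this
  have hhE : MulAut.conj h • E = E := by
    refine mem_normalizer_iff_smul.mp (mem_normalizer_iff.mpr fun x => ?_)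
    show π x ∈ X ↔ π (h * x * h⁻¹) ∈ X
    rw [map_mul, map_mul, map_inv]
    exact mem_normalizer_iff.mp hhX (π x)
  obtain ⟨k, hk, hkQ⟩ := (hQ.smul hhE).conj hQ
  have hkh : k * h ∈ normalizer (Q : Set G) := by
    rw [mem_normalizer_iff_smul, map_mul, ← smul_smul]
    exact hkQ
  obtain ⟨s, hs, t, ht, rfl⟩ : ∃ s ∈ Q, ∃ t ∈ T0, s * t = k := by
    rw [← hsup] at hk
    exact Subgroup.mem_sup_of_normal_right.mp hk
  refine ⟨q, Q, t * h, hq.out, hq2, hQ.2.1, ?_, ?_, ?_⟩
  · exact (hT0p.to_sup_of_normal_left hh).to_le (zpowers_le.mpr (mul_mem_sup ht (mem_zpowers h)))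
  · have := mul_mem (inv_mem (Subgroup.le_normalizer hs)) hkh
    rwa [← mul_assoc, inv_mul_cancel_left] at this
  · intro hbot
    refine hnc fun x hx => ?_
    rw [← hmap] at hx
    obtain ⟨a, ha, rfl⟩ := hx
    rw [commutator_eq_bot_iff_le_centralizer] at hbot
    have h1 := congrArg π (mem_centralizer_iff.mp (hbot ha) _ (mem_zpowers _))
    rw [map_mul, map_mul, map_pow, map_mul, show π t = 1 from MonoidHom.mem_ker.mp (hker.symm ▸ ht), one_mul] at h1
    exact mem_centralizer_singleton_iff.mpr h1.symm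

/-- The local `2`-subgroup in the quotient. -/
theorem exists_local (hG : Cfsg.IsPSolvable 2 G) (hO : Cfsg.pPrimeCore 2 G = ⊥) {q : ℕ} [hq : Fact q.Prime]
    (hq2 : q ≠ 2) {Q : Subgroup G} (hQ : IsPGroup q Q) {c y : G} (hcy : c = y * y) (hc : c * c = 1)
    (hyQ : y ∈ normalizer (Q : Set G)) (hnc : ⁅Q, zpowers c⁆ ≠ ⊥) :
    ∃ T Φ J : Subgroup G, Local T Φ J c y ∧ T ≠ ⊥ ∧
      ∀ L : Subgroup G, L.Normal → c ∈ L → J ≤ L := by
  classical
  haveI : Fact (Nat.Prime 2) := ⟨Nat.prime_two⟩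
  set C := zpowers c
  have hcpow : c ^ 2 = 1 := by rw [sq]; exact hc
  obtain ⟨R, ⟨hRQ, hyR, hRnc⟩, hRmin⟩ := (Set.toFinite
    {U : Subgroup G | U ≤ Q ∧ y ∈ normalizer (U : Set G) ∧ ⁅U, C⁆ ≠ ⊥}).exists_minimal ⟨Q, le_rfl, hyQ, hnc⟩
  have hR : IsPGroup q R := hQ.to_le hRQ
  have hCy : C ≤ zpowers y := zpowers_le.mpr (hcy ▸ mul_mem (mem_zpowers y) (mem_zpowers y))
  have hcopC : (Nat.card C).Coprime q := by
    rw [Nat.card_zpowers]
    exact ((Nat.coprime_primes Nat.prime_two hq.out).mpr (Ne.symm hq2)).coprime_dvd_left (orderOf_dvd_of_pow_eq_one hcpow)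
  have hmin' : ∀ U : Subgroup G, U < R → y ∈ normalizer (U : Set G) → ⁅U, C⁆ = ⊥ := fun U hU hyU => by
    by_contra hne
    exact hU.not_ge (hRmin ⟨hU.le.trans hRQ, hyU, hne⟩ hU.le)
  obtain ⟨hRC, hRstr, -, -⟩ := Cfsg.Agent.S3736.result (p := q) (zpowers y) C R hR (zpowers_le.mpr hyR) hCy
    ((zpowers_le.mpr (mem_centralizer_singleton_iff.mpr (show y * c = c * y by rw [hcy, mul_assoc]))).trans
      (fun a ha => mem_normalizer_conj fun g hg => by
        obtain ⟨i, rfl⟩ := mem_zpowers_iff.mp hg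
        have hac : Commute a c := mem_centralizer_singleton_iff.mp ha
        rw [(hac.zpow_right i).eq, mul_inv_cancel_right]
        exact zpow_mem (mem_zpowers c) i))
    hcopC hRnc (fun U hU hB => hmin' U hU (hB (mem_zpowers y)))
  have hcR : c ∈ normalizer (R : Set G) := hcy ▸ mul_mem hyR hyR
  have hcinv : c⁻¹ = c := inv_eq_of_mul_eq_one_right hc
  -- an inverted element
  obtain ⟨r₀, hr₀, ha1⟩ : ∃ r₀ ∈ R, ⁅r₀, c⁆ ≠ 1 := by
    by_contra hall
    push Not at hall
    refine hRnc (eq_bot_iff.mpr (commutator_le.mpr fun g hg x hx => ?_))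
    obtain ⟨i, rfl⟩ := mem_zpowers_iff.mp hx
    rw [mem_bot, commutatorElement_eq_one_iff_commute]
    exact (commutatorElement_eq_one_iff_commute.mp (hall g hg)).zpow_right i
  set a := ⁅r₀, c⁆ with ha_def
  have haR : a ∈ R := by
    rw [ha_def, commutatorElement_def, mul_assoc r₀ c, mul_assoc r₀]
    exact R.mul_mem hr₀ ((mem_normalizer_iff.mp hcR _).mp (R.inv_mem hr₀))
  have hca : c * a * c⁻¹ = a⁻¹ := by
    rw [ha_def, commutatorElement_inv, commutatorElement_def, commutatorElement_def]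
    simp only [hcinv]
    rw [show c * (r₀ * c * r₀⁻¹ * c) * c = c * r₀ * c * r₀⁻¹ * (c * c) by group, hc, mul_one]
  set b := y * a * y⁻¹ with hb_def
  have hbR : b ∈ R := (mem_normalizer_iff.mp hyR a).mp haR
  have hcyc : c * y = y * c := by rw [hcy, mul_assoc]
  have hcb : c * b * c⁻¹ = b⁻¹ := by
    rw [hb_def, show c * (y * a * y⁻¹) * c⁻¹ = (c * y) * a * (c * y)⁻¹ by group, hcyc,
      show y * c * a * (y * c)⁻¹ = y * (c * a * c⁻¹) * y⁻¹ by group, hca]
    group
  have hyb : y * b * y⁻¹ = a⁻¹ := by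
    rw [hb_def, show y * (y * a * y⁻¹) * y⁻¹ = (y * y) * a * (y * y)⁻¹ by group, ← hcy, hca]
  have hgen : Subgroup.closure ({a, b} : Set G) = R := by
    have hle : Subgroup.closure ({a, b} : Set G) ≤ R := (Subgroup.closure_le _).mpr (by
      rintro x (rfl | rfl)
      exacts [haR, hbR])
    rcases hle.lt_or_eq with hlt | he
    swap
    · exact he
    exfalso
    have hyU : y ∈ normalizer ((Subgroup.closure ({a, b} : Set G) : Subgroup G) : Set G) := mem_normalizer_conj fun g hg => by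
      have : (Subgroup.closure ({a, b} : Set G)).map (MulAut.conj y).toMonoidHom ≤ Subgroup.closure ({a, b} : Set G) := by
        rw [MonoidHom.map_closure, Subgroup.closure_le]
        rintro _ ⟨x, rfl | rfl, rfl⟩
        · exact Subgroup.subset_closure (Or.inr rfl)
        · show y * b * y⁻¹ ∈ Subgroup.closure _
          rw [hyb]; exact inv_mem (Subgroup.subset_closure (Or.inl rfl))
      exact this ⟨g, hg, rfl⟩
    have h0 := hmin' _ hlt hyU
    rw [commutator_eq_bot_iff_le_centralizer] at h0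
    have h1 := mem_centralizer_iff.mp (h0 (Subgroup.subset_closure (Or.inl rfl))) c (mem_zpowers c)
    rw [h1, mul_inv_cancel_right, eq_inv_iff_mul_eq_one, ← sq] at hca
    refine ha1 (orderOf_eq_one_iff.mp (Nat.dvd_one.mp ?_))
    obtain ⟨e, he⟩ := hR.exists_card_eq
    have h3 := Nat.dvd_gcd (orderOf_dvd_of_pow_eq_one hca) (orderOf_dvd_natCard _ haR)
    rw [he, (((Nat.coprime_primes Nat.prime_two hq.out).mpr (Ne.symm hq2)).pow_right e : Nat.Coprime 2 (q ^ e))] at h3
    exact h3
  -- `R ≤` every normal subgroup containing `c`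
  have hRN : ∀ N : Subgroup G, c ∈ N → (∀ g ∈ R, ∀ x ∈ N, g * x * g⁻¹ ∈ N) → R ≤ N := fun N hcN hN => by
    rw [← hRC, commutator_le]
    intro g hg x hx
    rw [commutatorElement_def]
    exact N.mul_mem (hN g hg x (zpowers_le.mpr hcN hx)) (N.inv_mem (zpowers_le.mpr hcN hx))
  -- the operator group
  obtain ⟨A, hAR, hA1, hRA, hyA, hAalt⟩ : ∃ A : Subgroup G, A ≤ R ∧ A ≠ ⊥ ∧ R ≤ normalizer (A : Set G) ∧
      y ∈ normalizer (A : Set G) ∧
      ((A = R ∧ (∀ g ∈ R, ∀ g' ∈ R, g * g' = g' * g) ∧ ∀ g ∈ R, c * g * c⁻¹ = g⁻¹) ∨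
        ∃ z, A = zpowers z ∧ z * y = y * z) := by
    by_cases hab : a * b = b * a
    · have hcomm : ∀ g ∈ R, ∀ g' ∈ R, g * g' = g' * g := by
        intro g hg g' hg'
        rw [← hgen] at hg hg'
        have : IsMulCommutative (Subgroup.closure ({a, b} : Set G)) := isMulCommutative_closure (by
          rintro x (rfl | rfl) z (rfl | rfl) <;> first | rfl | exact hab | exact hab.symm)
        exact congrArg Subtype.val (this.is_comm.comm ⟨g, hg⟩ ⟨g', hg'⟩)
      refine ⟨R, le_rfl, fun e => ha1 (mem_bot.mp (e ▸ haR)), Subgroup.le_normalizer, hyR,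
        Or.inl ⟨rfl, hcomm, fun g hg => ?_⟩⟩
      rw [← hgen] at hg
      induction hg using Subgroup.closure_induction with
      | mem x hx => rcases hx with rfl | rfl; exacts [hca, hcb]
      | one => simp
      | mul x x' hx hx' e e' =>
        rw [show c * (x * x') * c⁻¹ = (c * x * c⁻¹) * (c * x' * c⁻¹) by group, e, e', ← mul_inv_rev,
          hcomm x' (hgen ▸ hx') x (hgen ▸ hx)]
      | inv x hx e => rw [show c * x⁻¹ * c⁻¹ = (c * x * c⁻¹)⁻¹ by group, e]
    · have hspec : Cfsg.IsSpecial q ↥R := hRstr.resolve_left fun he => hab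
        (congrArg Subtype.val (he.1.is_comm.comm (⟨a, haR⟩ : R) ⟨b, hbR⟩))
      set z' := ⁅(⟨a, haR⟩ : R), (⟨b, hbR⟩ : R)⁆ with hz'
      have hz'c : z' ∈ center R := hspec.2.2.le (commutator_mem_commutator (mem_top _) (mem_top _))
      set z := ⁅a, b⁆ with hz
      have hzz : (z' : G) = z := by simp [hz', hz, commutatorElement_def]
      have hzc : ∀ g ∈ R, g * z = z * g := fun g hg => by
        have := congrArg Subtype.val (mem_center_iff.mp hz'c ⟨g, hg⟩)
        rwa [Subgroup.coe_mul, Subgroup.coe_mul, hzz] at this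
      have hzy : z * y = y * z := by
        have h1 : y * z * y⁻¹ = z := by
          calc y * z * y⁻¹ = ⁅y * a * y⁻¹, y * b * y⁻¹⁆ := by rw [hz]; simp only [commutatorElement_def]; group
            _ = ⁅b, a⁻¹⁆ := by rw [hyb]
            _ = a⁻¹ * (z * a) := by rw [hz]; simp only [commutatorElement_def]; group
            _ = z := by rw [← hzc a haR, inv_mul_cancel_left]
        exact (mul_inv_eq_iff_eq_mul.mp h1).symm
      refine ⟨zpowers z, zpowers_le.mpr (hzz ▸ z'.2), fun e => hab ?_, fun g hg => ?_, ?_, Or.inr ⟨z, rfl, hzy⟩⟩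
      · have := zpowers_eq_bot.mp e
        rwa [hz, commutatorElement_eq_one_iff_mul_comm] at this
      · refine mem_normalizer_conj fun x hx => ?_
        obtain ⟨i, rfl⟩ := mem_zpowers_iff.mp hx
        rw [(Commute.zpow_right (hzc g hg : Commute g z) i).eq, mul_inv_cancel_right]
        exact zpow_mem (mem_zpowers z) i
      · refine mem_normalizer_conj fun x hx => ?_
        obtain ⟨i, rfl⟩ := mem_zpowers_iff.mp hx
        rw [(Commute.zpow_right (hzy.symm : Commute y z) i).eq, mul_inv_cancel_right]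
        exact zpow_mem (mem_zpowers z) i
  -- the minimal `2`-subgroup
  set T0 := Cfsg.pCore 2 G with hT0
  haveI : T0.Normal := pCore_isNormal
  have hAodd : (Nat.card A).Coprime 2 := by
    obtain ⟨e, he⟩ := (hR.to_le hAR).exists_card_eq
    rw [he]
    exact ((Nat.coprime_primes hq.out Nat.prime_two).mpr hq2).pow_left e
  have hT0A : ⁅T0, A⁆ ≠ ⊥ := fun e => hA1 (by
    rw [commutator_eq_bot_iff_le_centralizer, le_centralizer_iff] at e
    have hAT : A ≤ T0 := e.trans (centralizer_pCore_le_of_pSolvable hG hO)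
    have h2 := (pCore_isPGroup (p := 2) (G := G)).to_le hAT
    obtain ⟨k, hk⟩ := h2.exists_card_eq
    refine card_eq_one.mp ?_
    have h3 : (Nat.card A).Coprime (2 ^ k) := hAodd.pow_right k
    rwa [← hk, Nat.coprime_self] at h3)
  set B := zpowers y ⊔ R with hB
  obtain ⟨T, ⟨hTT0, hBT, hTA⟩, hTmin⟩ := (Set.toFinite
    {U : Subgroup G | U ≤ T0 ∧ B ≤ normalizer (U : Set G) ∧ ⁅U, A⁆ ≠ ⊥}).exists_minimal
      ⟨T0, le_rfl, by rw [normalizer_eq_top]; exact le_top, hT0A⟩
  have hT : IsPGroup 2 T := pCore_isPGroup.to_le hTT0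
  obtain ⟨hTA', hTstr, hTirr, -⟩ := Cfsg.Agent.S3736.result (p := 2) B A T hT hBT (hAR.trans le_sup_right)
    (sup_le (zpowers_le.mpr hyA) hRA) hAodd hTA (fun U hU hBU => by
      by_contra hne
      exact hU.not_ge (hTmin ⟨hU.le.trans hTT0, hBU, hne⟩ hU.le))
  set Φ := (frattini ↥T).map T.subtype with hΦ
  have hΦT : Φ ≤ T := map_subtype_le _
  have hcent : ∀ f ∈ Φ, ∀ t ∈ T, f * t = t * f := by
    rintro _ ⟨f, hf, rfl⟩ t ht
    rcases hTstr with hel | hsp
    · exact congrArg Subtype.val (hel.1.is_comm.comm f ⟨t, ht⟩)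
    · exact congrArg Subtype.val (mem_center_iff.mp (hsp.2.1.le hf) ⟨t, ht⟩).symm
  have hsq : ∀ f ∈ Φ, f * f = 1 := by
    rintro _ ⟨f, hf, rfl⟩
    rcases hTstr with hel | hsp
    · show (f : G) * f = 1
      rw [← sq]; exact hel.2 _ f.2
    · have hcf : f ∈ commutator ↥T := hsp.2.2.ge (hsp.2.1.le hf)
      rw [_root_.commutator_def, Subgroup.commutator_def] at hcf
      have hcc : ∀ g ∈ Subgroup.closure {g | ∃ g₁ ∈ (⊤ : Subgroup T), ∃ g₂ ∈ (⊤ : Subgroup T), ⁅g₁, g₂⁆ = g},
          g ∈ center T ∧ g * g = 1 := by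
        intro g hg
        induction hg using Subgroup.closure_induction with
        | mem x hx =>
          obtain ⟨s, -, t, -, rfl⟩ := hx
          have hz : ⁅s, t⁆ ∈ center T := hsp.2.2.le (commutator_mem_commutator (mem_top _) (mem_top _))
          refine ⟨hz, ?_⟩
          have hs2 : s * s ∈ center T := by
            rw [← sq]; exact hsp.2.1.le (pGroup_pow_mem_frattini hT s)
          have e1 : ⁅s * s, t⁆ = 1 := commutatorElement_eq_one_iff_mul_comm.mpr (mem_center_iff.mp hs2 t).symm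
          rw [show ⁅s * s, t⁆ = s * ⁅s, t⁆ * s⁻¹ * ⁅s, t⁆ by simp only [commutatorElement_def]; group,
            mem_center_iff.mp hz s, mul_inv_cancel_right] at e1
          exact e1
        | one => exact ⟨one_mem _, one_mul 1⟩
        | mul x x' _ _ e e' =>
          refine ⟨mul_mem e.1 e'.1, ?_⟩
          rw [mul_assoc, ← mul_assoc x', mem_center_iff.mp e.1 x', mul_assoc x, e'.2, mul_one, e.2]
        | inv x _ e => exact ⟨inv_mem e.1, by rw [← mul_inv_rev, e.2, inv_one]⟩
      exact congrArg Subtype.val (hcc f hcf).2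
  have hyT : y ∈ normalizer (T : Set G) := hBT (mem_sup_left (mem_zpowers y))
  have hcT : c ∈ normalizer (T : Set G) := hcy ▸ mul_mem hyT hyT
  have hRT : R ≤ normalizer (T : Set G) := le_sup_right.trans hBT
  set J := (T ⊔ R) ⊔ zpowers c with hJ
  have hRJ : R ≤ J := le_sup_right.trans le_sup_left
  have hTJ : T ≤ J := le_sup_left.trans le_sup_left
  have hJT : J ≤ normalizer (T : Set G) := sup_le (sup_le Subgroup.le_normalizer hRT) (zpowers_le.mpr hcT)
  have hgenT : ∀ N : Subgroup G, c ∈ N → (∀ g ∈ J, ∀ x ∈ N, g * x * g⁻¹ ∈ N) → T ≤ N := fun N hcN hN => by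
    have hA : A ≤ N := hAR.trans (hRN N hcN fun g hg => hN g (hRJ hg))
    rw [← hTA', commutator_le]
    intro t ht x hx
    rw [commutatorElement_def]
    exact N.mul_mem (hN t (hTJ ht) x (hA hx)) (N.inv_mem (hA hx))
  -- the Frattini quotient as a module
  obtain ⟨S, _, _, f, σ, hfs, hfk, hσ⟩ := Cfsg.Agent.Grp.HHP.exists_section_action (normalizer (T : Set G)) T Φ hΦT
    (fun x hx x' hx' => ⟨⁅(⟨x, hx⟩ : T), ⟨x', hx'⟩⁆, pGroup_commutator_le_frattini hT
      (commutator_mem_commutator (mem_top _) (mem_top _)), by simp [commutatorElement_def]⟩)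
    (fun d hd => hd) (fun d hd x hx => by
      obtain ⟨x', hx', rfl⟩ := hx
      let e : T ≃* T := ((MulAut.conj d).subgroupMap T).trans
        (MulEquiv.subgroupCongr (Cfsg.Agent.Grp.mem_normalizer_of_map_eq.mp hd))
      have he : (frattini ↥T).map e.toMonoidHom = frattini ↥T :=
        characteristic_iff_map_eq.mp inferInstance e
      exact ⟨e x', he.le ⟨x', hx', rfl⟩, rfl⟩)
  have hfΦ : ∀ x : T, f x = 1 ↔ (x : G) ∈ Φ := fun x => by
    rw [← MonoidHom.mem_ker, hfk, mem_subgroupOf]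
  have hS2 : ∀ s : S, s * s = 1 := fun s => by
    obtain ⟨x, rfl⟩ := hfs s
    rw [← map_mul, hfΦ, ← sq]
    exact ⟨x ^ 2, pGroup_pow_mem_frattini hT x, rfl⟩
  have hσ' : ∀ (d : normalizer (T : Set G)) (x : T),
      σ d (f x) = f ⟨(d : G) * x * (d : G)⁻¹, (mem_normalizer_iff.mp d.2 x).mp x.2⟩ := fun d x => hσ d x _ rfl
  set c1 : normalizer (T : Set G) := ⟨c, hcT⟩
  have hbc : ∀ b (hb : b ∈ T), ⁅b, c⁆ ∈ Φ → σ c1 (f ⟨b, hb⟩) = f ⟨b, hb⟩ := fun b hb hbc => by
    rw [hσ']
    refine (mul_inv_eq_one.mp ?_).symm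
    rw [← map_inv, ← map_mul, hfΦ]
    show b * (c * b * c⁻¹)⁻¹ ∈ Φ
    convert hbc using 1
    simp only [commutatorElement_def]; group
  have hTne : T ≠ ⊥ := fun e => hTA (by rw [e]; exact commutator_bot_left A)
  have hnonfix : ¬ ∀ b ∈ T, ⁅b, c⁆ ∈ Φ := by
    intro hall
    -- then `A` acts trivially
    set N := σ.ker.map (normalizer (T : Set G)).subtype with hN
    have hcN : c ∈ N := ⟨c1, MulEquiv.ext fun s => by
      obtain ⟨x, rfl⟩ := hfs s
      rw [MulAut.one_apply]
      exact hbc x x.2 (hall x x.2), rfl⟩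
    have hAN : A ≤ N := hAR.trans (hRN N hcN fun g hg x hx => by
      obtain ⟨x', hx', rfl⟩ := hx
      exact ⟨⟨g, hRT hg⟩ * x' * (⟨g, hRT hg⟩ : normalizer (T : Set G))⁻¹,
        (MonoidHom.normal_ker σ).conj_mem x' hx' _, rfl⟩)
    have hle : ⁅T, A⁆ ≤ Φ := by
      rw [commutator_le]
      intro t ht x hx
      obtain ⟨x', hx', rfl⟩ := hAN hx
      have h1 := hσ' x' ⟨t, ht⟩
      rw [MonoidHom.mem_ker.mp hx', MulAut.one_apply] at h1
      have h2 := mul_inv_eq_one.mpr h1
      rw [← map_inv, ← map_mul, hfΦ] at h2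
      convert h2 using 1
      simp [commutatorElement_def, mul_assoc]
    rw [hTA'] at hle
    refine hTne ?_
    have hfr : frattini ↥T = ⊤ := map_injective T.subtype_injective (by
      rw [← hΦ, ← MonoidHom.range_eq_map, range_subtype]; exact le_antisymm hΦT hle)
    have h0 : (⊥ : Subgroup ↥T) = ⊤ := frattini_nongenerating (by rw [hfr, bot_sup_eq])
    have := congrArg (Subgroup.map T.subtype) h0
    rwa [Subgroup.map_bot, ← MonoidHom.range_eq_map, range_subtype, eq_comm] at this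
  refine ⟨T, Φ, J, ⟨hT, hcy, hc, hyT, hΦT, hcent, hsq, mem_sup_right (mem_zpowers c), hTJ, hJT, hgenT, ?_,
    hnonfix, ?_⟩, hTne, fun L hL hcL => ?_⟩
  · -- smallness
    intro U hU hUJ hUy
    set U' := U ⊔ Φ with hU'
    have hΦn : ∀ d ∈ normalizer (T : Set G), d ∈ normalizer (Φ : Set G) := fun d hd => mem_normalizer_conj fun x hx => by
      obtain ⟨x', hx', rfl⟩ := hx
      let e : T ≃* T := ((MulAut.conj d).subgroupMap T).trans
        (MulEquiv.subgroupCongr (Cfsg.Agent.Grp.mem_normalizer_of_map_eq.mp hd))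
      have he : (frattini ↥T).map e.toMonoidHom = frattini ↥T :=
        characteristic_iff_map_eq.mp inferInstance e
      exact ⟨e x', he.le ⟨x', hx', rfl⟩, rfl⟩
    have hinv : ∀ d ∈ normalizer (T : Set G), (∀ x ∈ U, d * x * d⁻¹ ∈ U) → d ∈ normalizer (U' : Set G) := fun d hd h =>
      mem_normalizer_conj fun x hx => by
        have : (U ⊔ Φ).map (MulAut.conj d).toMonoidHom ≤ U ⊔ Φ := by
          rw [Subgroup.map_sup]
          refine sup_le_sup ?_ ?_
          · rintro _ ⟨g, hg, rfl⟩; exact h g hg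
          · rintro _ ⟨g, hg, rfl⟩; exact (mem_normalizer_iff.mp (hΦn d hd) g).mp hg
        exact this ⟨x, hx, rfl⟩
    rcases hTirr U' le_sup_right (sup_le hU hΦT)
        (sup_le (zpowers_le.mpr (hinv y hyT hUy)) fun g hg => hinv g (hRT hg) (hUJ g (hRJ hg))) with h | h
    · exact Or.inr (h ▸ le_sup_left)
    · refine Or.inl ?_
      have hsup : U.subgroupOf T ⊔ frattini ↥T = ⊤ := by
        refine map_injective T.subtype_injective ?_
        rw [Subgroup.map_sup, map_subgroupOf_eq_of_le hU, ← hΦ, ← hU', h, ← MonoidHom.range_eq_map, range_subtype]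
      exact subgroupOf_eq_top.mp (frattini_nongenerating hsup)
  · -- control
    haveI : Fintype S := Fintype.ofFinite S
    have hSinv : ∀ s : S, s⁻¹ = s := fun s => inv_eq_of_mul_eq_one_right (hS2 s)
    rcases hAalt with ⟨hAeq, hcomm, hinv⟩ | ⟨z, rfl, hzy⟩
    · have hAeq' := hAeq.symm
      subst hAeq'
      refine Or.inl fun b hb hbΦ => ?_
      haveI : Fintype R := Fintype.ofFinite R
      set ι : R →* normalizer (T : Set G) := Subgroup.inclusion hRT
      set v := f ⟨b, hb⟩ with hv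
      -- the norm over `R` is trivial
      have hnorm : ∀ s : S, ∏ g : R, σ (ι g) s = 1 := by
        let Nm : S →* S :=
          { toFun := fun s => ∏ g : R, σ (ι g) s
            map_one' := by simp
            map_mul' := fun s s' => by simp [Finset.prod_mul_distrib] }
        intro s
        obtain ⟨⟨x, hx⟩, rfl⟩ := hfs s
        have hle : T ≤ ((Nm.comp f).ker).map T.subtype := by
          conv_lhs => rw [← hTA']
          rw [commutator_le]
          intro t ht g hg
          have hgt : g * t⁻¹ * g⁻¹ ∈ T := (mem_normalizer_iff.mp (hRT hg) _).mp (inv_mem ht)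
          refine ⟨⟨t, ht⟩ * ⟨_, hgt⟩, MonoidHom.mem_ker.mpr ?_, by simp [commutatorElement_def, mul_assoc]⟩
          rw [MonoidHom.comp_apply, map_mul, map_mul]
          have e1 : f ⟨_, hgt⟩ = σ (ι ⟨g, hg⟩) (f ⟨t, ht⟩)⁻¹ := by
            rw [← map_inv, hσ']; rfl
          rw [e1, map_inv, map_inv]
          refine mul_inv_eq_one.mpr ?_
          show ∏ g' : R, σ (ι g') _ = ∏ g' : R, σ (ι g') _
          refine Fintype.prod_equiv (Equiv.mulRight (⟨g, hg⟩ : R)⁻¹) _ _ fun g' => ?_
          rw [← MulAut.mul_apply, ← map_mul, ← map_mul]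
          simp
        obtain ⟨x', hx', e⟩ := hle hx
        rw [show (⟨x, hx⟩ : T) = x' from Subtype.ext e.symm]
        exact MonoidHom.mem_ker.mp hx'
      have hfix := hbc b hb hbΦ
      have hcinvR : ∀ g : R, σ (ι g⁻¹) v = σ c1 (σ (ι g) v) := fun g => by
        have hc1g : c1 * ι g = ι g⁻¹ * c1 := Subtype.ext (by
          show c * (g : G) = ((g⁻¹ : R) : G) * c
          rw [Subgroup.coe_inv, ← hinv _ g.2, inv_mul_cancel_right])
        rw [← MulAut.mul_apply, ← map_mul, hc1g, map_mul, MulAut.mul_apply, hfix]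
      let e := Fintype.equivFin R
      set F := (Finset.univ : Finset R).filter (fun g => e g < e g⁻¹) with hF
      obtain ⟨⟨w, hw⟩, hwf⟩ := hfs (∏ g ∈ F, σ (ι g) v)
      refine ⟨w, hw, ?_⟩
      have hsum : v = (∏ g ∈ F, σ (ι g) v) * ∏ g ∈ F, σ (ι g⁻¹) v := by
        have h1 := hnorm v
        rw [← Finset.mul_prod_erase _ _ (Finset.mem_univ (1 : R)), map_one, map_one, MulAut.one_apply] at h1
        have h2 : (Finset.univ : Finset R).erase 1 = F ∪ F.map (Equiv.inv R).toEmbedding := by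
          ext g
          simp only [Finset.mem_erase, Finset.mem_univ, and_true, Finset.mem_union, Finset.mem_map_equiv, hF,
            Finset.mem_filter, true_and, Equiv.inv_symm, Equiv.inv_apply, inv_inv]
          constructor
          · intro hg
            refine lt_or_gt_of_ne fun hee => hg ?_
            have hgg : g = g⁻¹ := e.injective hee
            have hg2 : g ^ 2 = 1 := by
              rw [sq]; nth_rw 2 [hgg]; exact mul_inv_cancel g
            obtain ⟨i, hi⟩ := hR.exists_card_eq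
            have h3 := Nat.dvd_gcd (orderOf_dvd_of_pow_eq_one hg2) (orderOf_dvd_natCard g)
            rw [hi, (((Nat.coprime_primes Nat.prime_two hq.out).mpr (Ne.symm hq2)).pow_right i : Nat.Coprime 2 (q ^ i))] at h3
            exact orderOf_eq_one_iff.mp (Nat.dvd_one.mp h3)
          · rintro (h | h) rfl <;> simp at h
        rw [h2, Finset.prod_union (by
          refine Finset.disjoint_left.mpr fun g hg hg' => ?_
          simp only [Finset.mem_map_equiv, hF, Finset.mem_filter, Equiv.inv_symm, Equiv.inv_apply, inv_inv] at hg hg'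
          exact lt_asymm hg.2 hg'.2), Finset.prod_map] at h1
        exact (eq_inv_of_mul_eq_one_left h1).trans (hSinv _)
      have hsum' : v = f ⟨w, hw⟩ * σ c1 (f ⟨w, hw⟩) := by
        rw [hwf, map_prod]
        convert hsum using 2
        exact Finset.prod_congr rfl fun g _ => (hcinvR g).symm
      have hcwT : c * w⁻¹ * c⁻¹ ∈ T := (mem_normalizer_iff.mp hcT _).mp (inv_mem hw)
      have e1 : f ((⟨b, hb⟩ : T)⁻¹ * (⟨w, hw⟩ * ⟨_, hcwT⟩)) = 1 := by
        rw [map_mul, map_mul, map_inv, show f ⟨_, hcwT⟩ = σ c1 (f ⟨w, hw⟩)⁻¹ by rw [← map_inv, hσ']; rfl,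
          hSinv (f ⟨w, hw⟩), ← hsum', hv, inv_mul_cancel]
      rw [hfΦ] at e1
      convert e1 using 1
      simp [commutatorElement_def, mul_assoc]
    · refine Or.inr ⟨z, hRJ (hAR (mem_zpowers z)), orderOf z, ?_, pow_orderOf_eq_one z, hzy, fun b hb hbΦ => ?_⟩
      · rw [← Nat.card_zpowers, Nat.odd_iff, ← Nat.two_dvd_ne_zero]
        exact Nat.prime_two.coprime_iff_not_dvd.mp hAodd.symm
      set z1 : normalizer (T : Set G) := ⟨z, hRT (hAR (mem_zpowers z))⟩
      set o := orderOf z with ho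
      have hoodd : Odd o := by
        rw [ho, ← Nat.card_zpowers, Nat.odd_iff, ← Nat.two_dvd_ne_zero]
        exact Nat.prime_two.coprime_iff_not_dvd.mp hAodd.symm
      have hzo : z1 ^ o = 1 := Subtype.ext (by rw [SubgroupClass.coe_pow]; exact pow_orderOf_eq_one z)
      let Nm : S →* S :=
        { toFun := fun s => ∏ i ∈ Finset.range o, σ (z1 ^ i) s
          map_one' := by simp
          map_mul' := fun s s' => by simp [Finset.prod_mul_distrib] }
      have hNz : ∀ s, Nm (σ z1 s) = Nm s := fun s => by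
        have h1 : (∏ i ∈ Finset.range o, σ (z1 ^ i) (σ z1 s)) * σ (z1 ^ 0) s =
            (∏ i ∈ Finset.range o, σ (z1 ^ i) s) * σ (z1 ^ o) s := by
          rw [← Finset.prod_range_succ (fun i => σ (z1 ^ i) s) o, Finset.prod_range_succ']
          congr 1
          refine Finset.prod_congr rfl fun i _ => ?_
          rw [← MulAut.mul_apply, ← map_mul, ← pow_succ]
        rw [pow_zero, hzo] at h1
        exact mul_right_cancel h1
      have hnorm : ∀ s : S, Nm s = 1 := by
        intro s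
        obtain ⟨⟨x, hx⟩, rfl⟩ := hfs s
        have hle : T ≤ ((Nm.comp f).ker).map T.subtype := by
          conv_lhs => rw [← hTA']
          rw [commutator_le]
          intro t ht g hg
          have hgT := hRT (hAR hg)
          have hgt : g * t⁻¹ * g⁻¹ ∈ T := (mem_normalizer_iff.mp hgT _).mp (inv_mem ht)
          refine ⟨⟨t, ht⟩ * ⟨_, hgt⟩, MonoidHom.mem_ker.mpr ?_, by simp [commutatorElement_def, mul_assoc]⟩
          obtain ⟨i, hi⟩ := (isOfFinOrder_of_finite z).mem_powers_iff_mem_zpowers.mpr hg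
          have e1 : f ⟨_, hgt⟩ = σ (z1 ^ i) (f ⟨t, ht⟩)⁻¹ := by
            rw [← map_inv, hσ']
            refine congrArg f (Subtype.ext ?_)
            simp only [SubgroupClass.coe_pow, z1, InvMemClass.coe_inv]
            rw [show z ^ i = g from hi]
          rw [MonoidHom.comp_apply, map_mul, map_mul, e1, map_inv, map_inv]
          refine mul_inv_eq_one.mpr ?_
          clear e1 hi
          induction i with
          | zero => rw [pow_zero, map_one, MulAut.one_apply]
          | succ i ih => rw [pow_succ', map_mul, MulAut.mul_apply, hNz, ← ih]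
        obtain ⟨x', hx', e⟩ := hle hx
        rw [show (⟨x, hx⟩ : T) = x' from Subtype.ext e.symm]
        exact MonoidHom.mem_ker.mp hx'
      refine ⟨List.range o, ?_⟩
      have hmem : ∀ i : ℕ, ⁅z ^ i, b⁆ ∈ T := fun i => by
        rw [commutatorElement_def]
        exact T.mul_mem ((mem_normalizer_iff.mp (pow_mem z1.2 i) b).mp hb) (inv_mem hb)
      set P : T := ((List.range o).map fun i => (⟨_, hmem i⟩ : T)).prod with hP
      have hPv : (P : G) = ((List.range o).map fun i => ⁅z ^ i, b⁆).prod := by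
        rw [hP, ← Subgroup.coe_subtype, map_list_prod, List.map_map]
        rfl
      have hfP : f P = f ⟨b, hb⟩ := by
        rw [hP, map_list_prod, List.map_map]
        have h1 : ∀ i : ℕ, f ⟨_, hmem i⟩ = σ (z1 ^ i) (f ⟨b, hb⟩) * f ⟨b, hb⟩ := fun i => by
          conv_rhs => arg 2; rw [← hSinv (f ⟨b, hb⟩)]
          rw [hσ', ← map_inv f, ← map_mul]
          refine congrArg f (Subtype.ext ?_)
          simp [commutatorElement_def, z1, mul_assoc]
        rw [show ((f ∘ fun i => (⟨_, hmem i⟩ : T)) : ℕ → S) = fun i => σ (z1 ^ i) (f ⟨b, hb⟩) * f ⟨b, hb⟩ from funext h1]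
        show ∏ i ∈ Finset.range o, (σ (z1 ^ i) (f ⟨b, hb⟩) * f ⟨b, hb⟩) = _
        rw [Finset.prod_mul_distrib, Finset.prod_const, Finset.card_range]
        rw [show (∏ i ∈ Finset.range o, σ (z1 ^ i) (f ⟨b, hb⟩)) = 1 from hnorm _, one_mul]
        obtain ⟨k, hk⟩ := hoodd
        rw [hk, pow_succ, pow_mul, sq, hS2, one_pow, one_mul]
      rw [← hPv]
      have := (hfΦ ((⟨b, hb⟩ : T)⁻¹ * P)).mp (by rw [map_mul, map_inv, hfP, inv_mul_cancel])
      exact this
  · refine sup_le (sup_le ?_ ?_) (zpowers_le.mpr hcL)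
    · exact hgenT L hcL fun g _ x hx => hL.conj_mem x hx g
    · exact hRN L hcL fun g _ x hx => hL.conj_mem x hx g

end Cfsg.Agent.Grp.Gross
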