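import Mathlib
import Cfsg.Agent.Lib.Grp.GrossTwo.Seed
import Cfsg.Agent.Lib.Grp.GrossTwo.Lift
import Cfsg.Agent.Lib.Block.TISylow

/-!
The top powers of the `2`-elements lie in the second term above the odd core.
-/

set_option autoImplicit false
set_option linter.style.haveILetI false
set_option linter.unusedSectionVars false

namespace Cfsg.Agent.Grp.Gross

open Subgroup
open scoped commutatorElement Pointwise

universe u

theorem isSylowIn_comap {H G : Type*} [Group H] [Finite H] [Group G] [Finite G] (π : H →* G)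
    (hπ : Function.Surjective π) (hker : ¬ 2 ∣ Nat.card π.ker) {T1 : Subgroup G} {P : Subgroup H}
    (hP : IsPGroup 2 P) (hle : P ≤ T1.comap π) (hmap : T1 ≤ P.map π) : IsSylowIn 2 P (T1.comap π) := by
  refine ⟨hle, hP, fun h2 => hker ?_⟩
  set M := T1.comap π
  have e1 := relIndex_ker M π
  rw [map_comap_eq_self_of_surjective hπ] at e1
  have hkM : π.ker ≤ M := fun x hx => by
    show π x ∈ T1
    rw [MonoidHom.mem_ker.mp hx]; exact one_mem _
  have e2 : Nat.card P * P.relIndex M = Nat.card M := by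
    rw [← relIndex_bot_left, relIndex_mul_relIndex _ _ _ bot_le hle, relIndex_bot_left]
  have e3 : Nat.card π.ker * Nat.card T1 = Nat.card M := by
    rw [← e1, ← relIndex_bot_left, relIndex_mul_relIndex _ _ _ bot_le hkM, relIndex_bot_left]
  obtain ⟨j, hj⟩ : Nat.card T1 ∣ Nat.card P := (card_dvd_of_le hmap).trans (card_map_dvd P π)
  have e4 : Nat.card T1 * (j * P.relIndex M) = Nat.card T1 * Nat.card π.ker := by
    rw [← mul_assoc, ← hj, e2, ← e3, mul_comm]
  rw [← mul_left_cancel₀ (Nat.card_pos (α := T1)).ne' e4]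
  exact dvd_mul_of_dvd_right h2 _

theorem normal_closure_pow {Γ : Type*} [Group Γ] (N : ℕ) :
    (Subgroup.closure {g : Γ | ∃ x : Γ, IsPGroup 2 (zpowers x) ∧ g = x ^ N}).Normal := by
  refine ⟨fun a ha g => ?_⟩
  induction ha using Subgroup.closure_induction with
  | mem a ha =>
    obtain ⟨x, hx, rfl⟩ := ha
    refine Subgroup.subset_closure ⟨g * x * g⁻¹, ?_, by rw [conj_pow]⟩
    have := hx.map (MulAut.conj g).toMonoidHom
    rwa [MonoidHom.map_zpowers] at this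
  | one => simp
  | mul a b _ _ ha hb =>
    rw [show g * (a * b) * g⁻¹ = (g * a * g⁻¹) * (g * b * g⁻¹) by group]
    exact mul_mem ha hb
  | inv a _ ha =>
    rw [show g * a⁻¹ * g⁻¹ = (g * a * g⁻¹)⁻¹ by group]
    exact inv_mem ha

variable {K : Type*} [Field K] {V : Type*} [AddCommGroup V] [Module K V]

theorem top_pow_mem [IsAlgClosed K] [FiniteDimensional K V] [CharP K 2] {H : Type u} [Group H] [Finite H]
    {ρ : H →* Module.End K V} (hρ : Function.Injective ρ) (hH : Cfsg.IsPSolvable 2 H)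
    (hO : Cfsg.pCore 2 H = ⊥) {n : ℕ} (hn : 1 ≤ n)
    (hdef : ∀ x : H, IsPGroup 2 (zpowers x) →
      x ^ 2 ^ (n + 1) = 1 ∧ (ρ x - 1) ^ (2 ^ (n + 1) - 1) = 0)
    {h : H} (hh : IsPGroup 2 (zpowers h)) [(Cfsg.pPrimeCore 2 H).Normal] :
    QuotientGroup.mk' (Cfsg.pPrimeCore 2 H) (h ^ 2 ^ n) ∈ Cfsg.pCore 2 (H ⧸ Cfsg.pPrimeCore 2 H) := by
  classical
  haveI : Fact (Nat.Prime 2) := ⟨Nat.prime_two⟩
  obtain ⟨m, rfl⟩ : ∃ m, n = m + 1 := ⟨n - 1, by omega⟩
  set C := Cfsg.pPrimeCore 2 H with hC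
  set π := QuotientGroup.mk' C with hπ
  have hπs : Function.Surjective π := QuotientGroup.mk'_surjective _
  have hπk : π.ker = C := QuotientGroup.ker_mk' C
  have hCodd : ¬ 2 ∣ Nat.card C := pPrimeCore_not_dvd
  by_contra hnot
  rw [map_pow] at hnot
  have hG : Cfsg.IsPSolvable 2 (H ⧸ C) := isPSolvable_map hH π hπs
  have hOG : Cfsg.pPrimeCore 2 (H ⧸ C) = ⊥ := pPrimeCore_quotient_bot
  have hexpG : ∀ a : H ⧸ C, IsPGroup 2 (zpowers a) → a ^ 2 ^ (m + 1 + 1) = 1 := fun a ha => by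
    obtain ⟨a', rfl⟩ := hπs a
    obtain ⟨b, -, hb, hba⟩ := exists_pElement_lift (p := 2) π (y := a') ha
    rw [← hba, ← map_pow, (hdef b hb).1, map_one]
  have hπh : IsPGroup 2 (zpowers (π h)) := by
    have := hh.map π
    rwa [MonoidHom.map_zpowers] at this
  obtain ⟨q, Q, w, hq, hq2, hQ, hw, hwQ, hnc⟩ := exists_companion hG hexpG hπh hnot
  haveI := Fact.mk hq
  have hcy : w ^ 2 ^ (m + 1) = w ^ 2 ^ m * w ^ 2 ^ m := by rw [← pow_add]; congr 1; rw [pow_succ]; omega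
  have hcc : w ^ 2 ^ (m + 1) * w ^ 2 ^ (m + 1) = 1 := by
    rw [← pow_add, show 2 ^ (m + 1) + 2 ^ (m + 1) = 2 ^ (m + 1 + 1) by rw [pow_succ 2 (m + 1)]; omega]
    exact hexpG w hw
  obtain ⟨T1, Φ1, J1, hL1, hT1, hJ1⟩ := exists_local hG hOG hq2 hQ hcy hcc
    ((normalizer (Q : Set (H ⧸ C))).pow_mem hwQ _) hnc
  set M := T1.comap π with hM
  obtain ⟨S, hS⟩ := exists_isSylowIn 2 M
  have hkerodd : ¬ 2 ∣ Nat.card π.ker := by rw [hπk]; exact hCodd
  have hnC : ∀ k : H, MulAut.conj k • C = C := fun k =>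
    mem_normalizer_iff_smul.mp (by rw [normalizer_eq_top]; exact mem_top k)
  have hcent : C ≤ centralizer (S : Set H) := by
    refine le_trans (le_of_forall_sylow (H := C ⊓ centralizer (S : Set H)) (K := C) inf_le_left fun r hr => ?_) inf_le_right
    obtain ⟨X, hX⟩ := exists_isSylowIn r C
    by_cases hr2 : r = 2
    · refine ⟨X, hX, fun x hx => ?_⟩
      subst hr2
      rw [eq_one_of_two_odd hX.2.1 hCodd hx (hX.1 hx)]
      exact one_mem _
    set Γ := normalizer (X : Set H) with hΓ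
    let f : Γ →* H ⧸ C := π.comp Γ.subtype
    have hf : Function.Surjective f := fun a => by
      obtain ⟨g, rfl⟩ := hπs a
      obtain ⟨k, hk, hkX⟩ := (hX.smul (hnC g)).conj hX
      refine ⟨⟨k * g, ?_⟩, ?_⟩
      · rw [hΓ, mem_normalizer_iff_smul, map_mul, ← smul_smul]; exact hkX
      · show π (k * g) = π g
        rw [map_mul, show π k = 1 from MonoidHom.mem_ker.mp (hπk.symm ▸ hk), one_mul]
    have hfker : ¬ 2 ∣ Nat.card f.ker := fun h2 => hCodd (h2.trans (by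
      rw [← Subgroup.card_map_of_injective Γ.subtype_injective]
      refine card_dvd_of_le ?_
      rintro _ ⟨g, hg, rfl⟩
      rw [← hπk]
      exact hg))
    obtain ⟨g0, hg0⟩ := hf w
    obtain ⟨h1, -, hh1, hfh1⟩ := exists_pElement_lift (p := 2) f (y := g0) (by rw [hg0]; exact hw)
    rw [hg0] at hfh1
    have hdefΓ : ∀ x : Γ, IsPGroup 2 (zpowers x) →
        x ^ 2 ^ (m + 1 + 1) = 1 ∧ (ρ.comp Γ.subtype x - 1) ^ (2 ^ (m + 1 + 1) - 1) = 0 := fun x hx => by
      have := hx.map Γ.subtype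
      rw [MonoidHom.map_zpowers] at this
      exact ⟨Subtype.ext (by simpa using (hdef _ this).1), (hdef _ this).2⟩
    have hcy1 : h1 ^ 2 ^ (m + 1) = h1 ^ 2 ^ m * h1 ^ 2 ^ m := by rw [← pow_add]; congr 1; rw [pow_succ]; omega
    have hcc1 : h1 ^ 2 ^ (m + 1) * h1 ^ 2 ^ (m + 1) = 1 := by
      rw [← pow_add, show 2 ^ (m + 1) + 2 ^ (m + 1) = 2 ^ (m + 1 + 1) by rw [pow_succ 2 (m + 1)]; omega]
      exact (hdefΓ h1 hh1).1
    haveI hLn := normal_closure_pow (Γ := Γ) (2 ^ (m + 1))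
    set L := Subgroup.closure {g : Γ | ∃ x : Γ, IsPGroup 2 (zpowers x) ∧ g = x ^ 2 ^ (m + 1)}
    have hcL : h1 ^ 2 ^ (m + 1) ∈ L := Subgroup.subset_closure ⟨h1, hh1, rfl⟩
    obtain ⟨T, Φ, J, hL, hJL, hTmap⟩ := exists_lift f hf hfker (T1 := T1) (Φ1 := Φ1) (J1 := J1)
      (c := h1 ^ 2 ^ (m + 1)) (y := h1 ^ 2 ^ m) (by rw [map_pow, map_pow, hfh1]; exact hL1) hcy1 hcc1
      (hh1.to_le (zpowers_le.mpr ((zpowers h1).pow_mem (mem_zpowers h1) _))) L hcL
      (hJ1 _ (hLn.map f hf) ⟨_, hcL, by rw [map_pow, hfh1]⟩)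
    haveI : (X.subgroupOf Γ).Normal :=
      (normal_subgroupOf_iff_le_normalizer Subgroup.le_normalizer).mpr le_rfl
    have hfix := centralizes (ρ := ρ.comp Γ.subtype) (hρ.comp Γ.subtype_injective) (r := r) hr2
      (X.subgroupOf Γ) (hX.2.1.comap_of_injective Γ.subtype Γ.subtype_injective) (n := m + 1) (by omega)
      hdefΓ hh1 hJL hL
    set T' := T.map Γ.subtype ⊓ M with hT'
    have hT'S : IsSylowIn 2 T' M := by
      refine isSylowIn_comap π hπs hkerodd ((hL.twoT.map _).to_le inf_le_left) inf_le_right fun a ha => ?_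
      obtain ⟨t, ht, rfl⟩ := hTmap ha
      exact ⟨(t : H), ⟨⟨t, ht, rfl⟩, ha⟩, rfl⟩
    obtain ⟨k, -, hkS⟩ := hT'S.conj hS
    refine ⟨MulAut.conj k • X, hX.smul (hnC k), le_inf ?_ ?_⟩
    · exact (Subgroup.pointwise_smul_le_pointwise_smul_iff.mpr hX.1).trans (hnC k).le
    rintro x' hx'
    refine mem_centralizer_iff.mpr fun s hs => ?_
    rw [mem_smul_conj] at hx'
    rw [← hkS, SetLike.mem_coe, mem_smul_conj] at hs
    obtain ⟨t, ht, hts⟩ := hs.1
    have h1' := hfix t ht ⟨k⁻¹ * x' * k, Subgroup.le_normalizer hx'⟩ hx'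
    have h2 : (t : H) * (k⁻¹ * x' * k) * (t : H)⁻¹ = k⁻¹ * x' * k := congrArg Subtype.val h1'
    rw [show (t : H) = k⁻¹ * s * k from hts] at h2
    have h3 : k⁻¹ * (s * x' * s⁻¹) * k = k⁻¹ * x' * k := by rw [← h2]; group
    exact mul_inv_eq_iff_eq_mul.mp (mul_left_cancel (mul_right_cancel h3))
  have hSC : S ≤ C := fun s hs => Block.centralizer_pPrimeCore_le hH hO
    (mem_centralizer_iff.mpr fun x hx => (mem_centralizer_iff.mp (hcent hx) s hs).symm)
  have hSbot : S = ⊥ := eq_bot_iff.mpr fun s hs => mem_bot.mpr (eq_one_of_two_odd hS.2.1 hCodd hs (hSC hs))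
  refine hT1 (eq_bot_iff.mpr fun a ha => mem_bot.mpr (eq_one_of_two_odd hL1.twoT ?_ ha ha))
  have h2 := hS.2.2
  rw [hSbot, relIndex_bot_left] at h2
  exact fun hd => h2 (hd.trans (by
    rw [← map_comap_eq_self_of_surjective hπs T1]
    exact card_map_dvd M π))

end Cfsg.Agent.Grp.Gross
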