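import Mathlib
import Cfsg.Agent.Lib.Grp.GrossTwo.Core
import Cfsg.Agent.Lib.Grp.HHPLength

/-!
Gross's bound on the `2`-length of a `2`-soluble group.
-/

set_option autoImplicit false
set_option linter.style.haveILetI false
set_option linter.unusedSectionVars false

namespace Cfsg.Agent.Grp.Gross

open Subgroup
open scoped commutatorElement

universe u

/-- The top power lies in the fourth term. -/
theorem pow_mem_uSer_four_two {G : Type u} [Group G] [Finite G] [hp : Fact (Nat.Prime 2)]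
    (hG : Cfsg.IsPSolvable 2 G) {n : ℕ} (hn : 1 ≤ n)
    (hexp : ∀ (P : Sylow 2 G), ∀ x ∈ (P : Subgroup G), x ^ 2 ^ (n + 1) = 1) :
    ∀ x : G, IsPGroup 2 (zpowers x) → x ^ 2 ^ n ∈ uSer 2 G 4 := by
  classical
  intro x hx
  obtain ⟨Γ, V, _, _, _, _, q, ι, χ, hq, hι, hχ, hV, -, hker, hO, -⟩ := HHP.exists_action (p := 2) hG
  obtain ⟨W, _, _, _, L, hL, hLn, -⟩ := HHExc.exists_linearization (p := 2) hV
  haveI : CharP (AlgebraicClosure (ZMod 2)) 2 :=
    charP_of_injective_algebraMap (algebraMap (ZMod 2) (AlgebraicClosure (ZMod 2))).injective 2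
  obtain ⟨H, hH⟩ : ∃ H, H = (χ.comp q).range := ⟨_, rfl⟩
  let f : G →* H := (χ.comp q).codRestrict H (fun g => hH ▸ ⟨g, rfl⟩)
  have hf : Function.Surjective f := fun ⟨y, hy⟩ => by
    rw [hH] at hy
    obtain ⟨g, rfl⟩ := hy
    exact ⟨g, rfl⟩
  have hfk : f.ker ≤ uSer 2 G 2 := fun g hg => hker (congrArg Subtype.val (MonoidHom.mem_ker.mp hg))
  have hHs : Cfsg.IsPSolvable 2 H := isPSolvable_map hG f hf
  have hOH : Cfsg.pCore 2 H = ⊥ := by subst hH; exact hO
  let ρ := L.comp H.subtype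
  have hρ : Function.Injective ρ := hL.comp H.subtype_injective
  have hdef : ∀ y : H, IsPGroup 2 (zpowers y) →
      y ^ 2 ^ (n + 1) = 1 ∧ (ρ y - 1) ^ (2 ^ (n + 1) - 1) = 0 := by
    intro y hy
    obtain ⟨y', rfl⟩ := hf y
    obtain ⟨a, -, hap, hay⟩ := exists_pElement_lift (p := 2) f (y := y') hy
    rw [← hay]
    refine ⟨?_, hLn _ (n + 1) (HHP.norm_prod_eq_one q hq ι hι χ hχ hV hexp hap)⟩
    obtain ⟨P, hP⟩ := hap.exists_le_sylow
    rw [← map_pow, hexp P a (hP (mem_zpowers a)), map_one]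
  refine HHP.comap_uSer_two_le f hf hfk ?_
  rw [mem_comap, map_pow]
  set h := f x
  have hhp : IsPGroup 2 (zpowers h) := by
    have := hx.map f
    rwa [MonoidHom.map_zpowers] at this
  clear_value h
  set C := Cfsg.pPrimeCore 2 H with hC
  haveI hCn : C.Normal := pPrimeCore_isNormal
  have hCu : C ≤ uSer 2 H 1 := le_uSer_succ_even Even.zero inferInstance (S := ⊥) bot_le
    (by rw [relIndex_bot_left]; exact pPrimeCore_not_dvd)
  have h1 := top_pow_mem hρ hHs hOH hn hdef hhp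
  refine (le_uSer_succ_odd odd_one ((pCore_isNormal).comap (QuotientGroup.mk' C)) hCu ?_) (mem_comap.mpr h1)
  have e := relIndex_ker ((Cfsg.pCore 2 (H ⧸ C)).comap (QuotientGroup.mk' C)) (QuotientGroup.mk' C)
  rw [QuotientGroup.ker_mk', map_comap_eq_self_of_surjective (QuotientGroup.mk'_surjective C)] at e
  rw [e]
  exact pCore_isPGroup.exists_card_eq

theorem pLengthLE_one_of_exponent_two {G : Type u} [Group G] [Finite G] [hp : Fact (Nat.Prime 2)]
    (hG : Cfsg.IsPSolvable 2 G) (hexp : ∀ (P : Sylow 2 G), ∀ x ∈ (P : Subgroup G), x ^ 2 ^ 1 = 1) :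
    Cfsg.PLengthLE 2 1 G := by
  refine pLengthLE_one_of_index fun {hN} => ?_
  set π := QuotientGroup.mk' (Cfsg.pPrimeCore 2 G)
  have hπ : Function.Surjective π := QuotientGroup.mk'_surjective _
  obtain ⟨P⟩ : Nonempty (Sylow 2 (G ⧸ Cfsg.pPrimeCore 2 G)) := inferInstance
  obtain ⟨P', hP'⟩ := Sylow.mapSurjective_surjective hπ 2 P
  have hsq : ∀ x ∈ (P : Subgroup (G ⧸ Cfsg.pPrimeCore 2 G)), x⁻¹ = x := by
    intro x hx
    rw [← hP'] at hx
    obtain ⟨a, ha, rfl⟩ := hx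
    refine inv_eq_of_mul_eq_one_right ?_
    rw [← sq, ← map_pow, show a ^ 2 = 1 from hexp P' a ha, map_one]
  have hcore : Cfsg.pCore 2 (G ⧸ Cfsg.pPrimeCore 2 G) ≤ (P : Subgroup _) := by
    haveI : (Cfsg.pCore 2 (G ⧸ Cfsg.pPrimeCore 2 G)).Normal := pCore_isNormal
    have hsup : IsPGroup 2 ((P : Subgroup _) ⊔ Cfsg.pCore 2 (G ⧸ Cfsg.pPrimeCore 2 G) : Subgroup _) :=
      P.isPGroup'.to_sup_of_normal_right pCore_isPGroup
    exact le_sup_right.trans (P.is_maximal' hsup le_sup_left).le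
  have hle : (P : Subgroup _) ≤ Cfsg.pCore 2 (G ⧸ Cfsg.pPrimeCore 2 G) := by
    refine le_trans ?_ (centralizer_pCore_le_of_pSolvable (isPSolvable_map hG π hπ) pPrimeCore_quotient_bot)
    intro x hx
    refine mem_centralizer_iff.mpr fun w hw => ?_
    have hw' := hcore hw
    have h3 := hsq (w * x) (mul_mem hw' hx)
    rw [mul_inv_rev, hsq w hw', hsq x hx] at h3
    exact h3.symm
  exact fun h2 => P.not_dvd_index (h2.trans (Subgroup.index_dvd_of_le hle))

theorem pLengthLE_two_mul_sub_one : ∀ (n : ℕ) (G : Type u) [Group G] [Finite G] [Fact (Nat.Prime 2)],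
    Cfsg.IsPSolvable 2 G → (∀ (P : Sylow 2 G), ∀ x ∈ (P : Subgroup G), x ^ 2 ^ (n + 1) = 1) →
    Cfsg.PLengthLE 2 (2 * n + 1) G
  | 0, G, _, _, _, hG, hexp => pLengthLE_one_of_exponent_two hG hexp
  | n + 1, G, _, _, _, hG, hexp => by
    haveI : (uSer 2 G 4).Normal := (Cfsg.upperPSeries 2 G 4).2
    have hf : Function.Surjective (QuotientGroup.mk' (uSer 2 G 4)) := QuotientGroup.mk'_surjective _
    rw [show 2 * (n + 1) + 1 = 2 + (2 * n + 1) by ring]
    exact pLengthLE_extension (uSer 2 G 4) (a := 2) (uSer_mono (by omega))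
      (pLengthLE_two_mul_sub_one n _ (isPSolvable_map hG _ hf)
        (HHP.exponent_quotient_of_mem _ (pow_mem_uSer_four_two hG (Nat.le_add_left 1 n) hexp)))

end Cfsg.Agent.Grp.Gross
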